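import Cfsg.Agent.H16.Prim
import Cfsg.Agent.H16.L.G24
import Cfsg.Agent.H15.J2

/-! Generated by tools/h16 (computation kit). -/

set_option maxRecDepth 100000
set_option maxHeartbeats 0

namespace H16.G24E

noncomputable def χd : ℕ := nat_lit 0x9955a9996a6955a6a55555595555aaa65695aa569596a5a5a569599566656a9955555555955555555555555555a6a695965595965569565a55959696659996565596656555555555555555555555a595956559665956556559555555555655559555555555555554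
noncomputable def χ (u : ℕ) : ℕ := Nat.land (Nat.shiftRight χd (Nat.mul u (nat_lit 2))) (nat_lit 3)
noncomputable def FAd : ℕ := nat_lit 0x4b054af56bd20d697967851fd94a2a456845bf1ae13a358ef6ae61fa42cd305375971d5081a5c7bf9c32750da5f8c25c125c70cb45631ab7653927e785dd599c2cc48795dc14242d2247885e8072f51a5326d4a29238e8967b916468fc8d3725d93355052c62a3d27f3a31a4a6208c90718e201540d56056494f4618116556fcd816ae1e7d101899d848843f5680c397a658645bf516255f8566159ca8e718897b796531b77498b03cb9b1868d52f566cd2c75731d5e59e59446ab8c195735ed73061e3b546973e7c35b0668cd568791126259412ad5571e585cfd94d6b3dd205409edb644d94b620d53c5076260443541c227da235794eee51b5870772089e827140f67be2d384fe6026178c3867d94c361752dc85b5e0f87ed4dd79ee0f753d5c5b8460c3b5b660f370cd10c86ed06f65319d83a90d09404546c2a41a4b6c59b2a7c552c064c99577c8a28b419dcf846519f7782ccb58a69eb35231d5f46e171e693d4b95930d1f66c919583284072a9841754e8c9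a4b8df2579d904054ecc9187d626555848ab4b75f361035cf1557616c65a98897725cf95a550a40020e2a38ad1b96c5d2ac83f9a6e55a54c242959a859356d85a51ace30257386cd118978d9111429d4ae6ceded05229dd47b09d49832dd425ce5a5d75c99ac2115b33451ded610895e85028e1c2458d081014917635e29b4199d70791682b83fd85c7b0d2697859ab454f59fc774dcbc7819abb87d25ec7419110689d91457a4ea5108cc547bfd5ae78e4aa77aade6d483148d691d9fd97fd0a631248aa3a216e542d96e410f944e30e8d8047c55a11031c5a2a8661568d148b75c4aa084b90b7469158d4105dd5570db324a75b3d7c8d60572059453bbd5e434391dc8afa123387560465ad6b159455c262a62eb41b88d27a05d2542c9da3649c84489484167258d1e001e424266499873b5ed16ad5e77546d1dd97cde0a68621ea001926871d501a302097a001591268c8d9b458c004451890a000c0020004000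
noncomputable def FA (u : ℕ) : ℕ := Nat.land (Nat.shiftRight FAd (Nat.mul u (nat_lit 14))) (nat_lit 16383)
noncomputable def UA : List (List ℕ) := [[nat_lit 3, nat_lit 4, nat_lit 3, nat_lit 4, nat_lit 3, nat_lit 5, nat_lit 4, nat_lit 3, nat_lit 0, nat_lit 4, nat_lit 5],
  [nat_lit 2, nat_lit 1, nat_lit 4, nat_lit 3, nat_lit 4, nat_lit 3, nat_lit 5, nat_lit 4, nat_lit 3, nat_lit 4, nat_lit 2, nat_lit 5]]
noncomputable def RA : List Root := [⟨(nat_lit 0), [], []⟩,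
  ⟨(nat_lit 1), [], []⟩,
  ⟨(nat_lit 2), [[nat_lit 4],
  [nat_lit 4],
  [nat_lit 5, nat_lit 4, nat_lit 1, nat_lit 2, nat_lit 4, nat_lit 5, nat_lit 2, nat_lit 4, nat_lit 2, nat_lit 4, nat_lit 2],
  [nat_lit 5, nat_lit 3, nat_lit 4, nat_lit 2, nat_lit 4, nat_lit 5, nat_lit 2, nat_lit 4, nat_lit 2, nat_lit 4, nat_lit 0, nat_lit 3]], [((nat_lit 11), [nat_lit 7]),
  ((nat_lit 12), [nat_lit 8]),
  ((nat_lit 13), [nat_lit 9]),
  ((nat_lit 0), [nat_lit 9, nat_lit 9, nat_lit 12, nat_lit 9, nat_lit 9, nat_lit 12]),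
  ((nat_lit 1), [nat_lit 8, nat_lit 13, nat_lit 13, nat_lit 8, nat_lit 13, nat_lit 13]),
  ((nat_lit 2), [nat_lit 12, nat_lit 13]),
  ((nat_lit 3), [nat_lit 9, nat_lit 8]),
  ((nat_lit 4), [nat_lit 7]),
  ((nat_lit 5), [nat_lit 7, nat_lit 8, nat_lit 13, nat_lit 13, nat_lit 12, nat_lit 12, nat_lit 9, nat_lit 7, nat_lit 9, nat_lit 8, nat_lit 8, nat_lit 7, nat_lit 9, nat_lit 7, nat_lit 13])]⟩,
  ⟨(nat_lit 3), [[nat_lit 5, nat_lit 4, nat_lit 1, nat_lit 3, nat_lit 1, nat_lit 4, nat_lit 3, nat_lit 0, nat_lit 4, nat_lit 3, nat_lit 1, nat_lit 5, nat_lit 4, nat_lit 3, nat_lit 0, nat_lit 4],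
  [nat_lit 4, nat_lit 1, nat_lit 2, nat_lit 4, nat_lit 5, nat_lit 0, nat_lit 2, nat_lit 4, nat_lit 1, nat_lit 2, nat_lit 4, nat_lit 0, nat_lit 2, nat_lit 0, nat_lit 4, nat_lit 5],
  [nat_lit 5, nat_lit 4, nat_lit 1, nat_lit 2, nat_lit 4, nat_lit 5, nat_lit 2, nat_lit 4, nat_lit 2, nat_lit 4, nat_lit 2],
  [nat_lit 5, nat_lit 3, nat_lit 4, nat_lit 2, nat_lit 4, nat_lit 5, nat_lit 2, nat_lit 4, nat_lit 2, nat_lit 4, nat_lit 0, nat_lit 3]], [((nat_lit 11), [nat_lit 7]),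
  ((nat_lit 12), [nat_lit 8]),
  ((nat_lit 13), [nat_lit 9]),
  ((nat_lit 0), [nat_lit 13, nat_lit 8, nat_lit 7, nat_lit 13, nat_lit 8, nat_lit 7]),
  ((nat_lit 1), [nat_lit 11, nat_lit 12, nat_lit 9, nat_lit 11, nat_lit 12, nat_lit 9]),
  ((nat_lit 2), [nat_lit 12, nat_lit 13]),
  ((nat_lit 3), [nat_lit 9, nat_lit 8]),
  ((nat_lit 4), [nat_lit 11, nat_lit 9, nat_lit 9, nat_lit 12, nat_lit 9, nat_lit 11, nat_lit 12, nat_lit 9, nat_lit 12, nat_lit 9, nat_lit 7, nat_lit 7, nat_lit 12]),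
  ((nat_lit 5), [nat_lit 11, nat_lit 9, nat_lit 7, nat_lit 13, nat_lit 13, nat_lit 7, nat_lit 8, nat_lit 8])]⟩,
  ⟨(nat_lit 6), [[nat_lit 4, nat_lit 3, nat_lit 0, nat_lit 4, nat_lit 2, nat_lit 4, nat_lit 3, nat_lit 1],
  [nat_lit 0, nat_lit 2, nat_lit 4, nat_lit 3, nat_lit 4, nat_lit 1, nat_lit 2, nat_lit 4],
  [nat_lit 5, nat_lit 4, nat_lit 1, nat_lit 2, nat_lit 4, nat_lit 5, nat_lit 2, nat_lit 4, nat_lit 2, nat_lit 4, nat_lit 2],
  [nat_lit 5, nat_lit 3, nat_lit 4, nat_lit 2, nat_lit 4, nat_lit 5, nat_lit 2, nat_lit 4, nat_lit 2, nat_lit 4, nat_lit 0, nat_lit 3]], [((nat_lit 11), [nat_lit 7]),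
  ((nat_lit 12), [nat_lit 8]),
  ((nat_lit 13), [nat_lit 9]),
  ((nat_lit 0), [nat_lit 9, nat_lit 9, nat_lit 12, nat_lit 9, nat_lit 9, nat_lit 12]),
  ((nat_lit 1), [nat_lit 8, nat_lit 13, nat_lit 13, nat_lit 8, nat_lit 13, nat_lit 13]),
  ((nat_lit 2), [nat_lit 12, nat_lit 13]),
  ((nat_lit 3), [nat_lit 9, nat_lit 8]),
  ((nat_lit 4), [nat_lit 7, nat_lit 13, nat_lit 11, nat_lit 8, nat_lit 9, nat_lit 8, nat_lit 11, nat_lit 12, nat_lit 13]),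
  ((nat_lit 5), [nat_lit 8, nat_lit 7, nat_lit 12, nat_lit 9, nat_lit 8, nat_lit 7, nat_lit 8, nat_lit 13, nat_lit 12])]⟩,
  ⟨(nat_lit 11), [[nat_lit 4, nat_lit 2, nat_lit 4],
  [nat_lit 4, nat_lit 3, nat_lit 4],
  [nat_lit 5, nat_lit 4, nat_lit 1, nat_lit 2, nat_lit 4, nat_lit 5, nat_lit 2, nat_lit 4, nat_lit 2, nat_lit 4, nat_lit 2],
  [nat_lit 5, nat_lit 3, nat_lit 4, nat_lit 2, nat_lit 4, nat_lit 5, nat_lit 2, nat_lit 4, nat_lit 2, nat_lit 4, nat_lit 0, nat_lit 3]], [((nat_lit 11), [nat_lit 7]),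
  ((nat_lit 12), [nat_lit 8]),
  ((nat_lit 13), [nat_lit 9]),
  ((nat_lit 0), [nat_lit 9, nat_lit 9, nat_lit 12, nat_lit 9, nat_lit 9, nat_lit 12]),
  ((nat_lit 1), [nat_lit 8, nat_lit 13, nat_lit 13, nat_lit 8, nat_lit 13, nat_lit 13]),
  ((nat_lit 2), [nat_lit 12, nat_lit 13]),
  ((nat_lit 3), [nat_lit 9, nat_lit 8]),
  ((nat_lit 4), [nat_lit 8, nat_lit 9, nat_lit 9, nat_lit 8, nat_lit 13, nat_lit 8, nat_lit 9, nat_lit 7, nat_lit 12, nat_lit 7, nat_lit 12, nat_lit 13, nat_lit 13, nat_lit 7]),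
  ((nat_lit 5), [nat_lit 8, nat_lit 8, nat_lit 7, nat_lit 8, nat_lit 9, nat_lit 7, nat_lit 8, nat_lit 9, nat_lit 12, nat_lit 12])]⟩,
  ⟨(nat_lit 17), [[nat_lit 3, nat_lit 1, nat_lit 4, nat_lit 3, nat_lit 4, nat_lit 3, nat_lit 1, nat_lit 3, nat_lit 5, nat_lit 4, nat_lit 2, nat_lit 0],
  [nat_lit 1, nat_lit 3, nat_lit 4, nat_lit 5, nat_lit 2, nat_lit 0, nat_lit 2, nat_lit 4, nat_lit 2, nat_lit 4, nat_lit 0, nat_lit 2],
  [nat_lit 5, nat_lit 4, nat_lit 1, nat_lit 2, nat_lit 4, nat_lit 5, nat_lit 2, nat_lit 4, nat_lit 2, nat_lit 4, nat_lit 2],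
  [nat_lit 5, nat_lit 3, nat_lit 4, nat_lit 2, nat_lit 4, nat_lit 5, nat_lit 2, nat_lit 4, nat_lit 2, nat_lit 4, nat_lit 0, nat_lit 3]], [((nat_lit 11), [nat_lit 7]),
  ((nat_lit 12), [nat_lit 8]),
  ((nat_lit 13), [nat_lit 9]),
  ((nat_lit 0), [nat_lit 9, nat_lit 9, nat_lit 12, nat_lit 9, nat_lit 9, nat_lit 12]),
  ((nat_lit 1), [nat_lit 8, nat_lit 13, nat_lit 13, nat_lit 8, nat_lit 13, nat_lit 13]),
  ((nat_lit 2), [nat_lit 12, nat_lit 13]),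
  ((nat_lit 3), [nat_lit 9, nat_lit 8]),
  ((nat_lit 4), [nat_lit 13, nat_lit 12, nat_lit 7, nat_lit 8, nat_lit 13, nat_lit 7, nat_lit 7, nat_lit 7, nat_lit 13, nat_lit 8]),
  ((nat_lit 5), [nat_lit 12, nat_lit 9, nat_lit 9, nat_lit 12, nat_lit 11, nat_lit 13, nat_lit 7, nat_lit 12, nat_lit 11, nat_lit 13, nat_lit 8, nat_lit 7])]⟩,
  ⟨(nat_lit 31), [], []⟩,
  ⟨(nat_lit 179), [], []⟩]
noncomputable def FBd : ℕ := nat_lit 0x5c51af022d5e0e38f563a7099d98465521e6b8db353a1de3259353378288cc75cb515648252ab4aa9ced65e0c4030d2132491da8f89ec4a169d16b964f92ec30d591060895fc8aece81924e04473709155599d3470952ed7c3840274bdc2736dde68296571946e526b69f931d610d65d66d19f2740d19469f5ebd739633034ddb1b3319560680e2d0512dac0664d87161c203932919b53b95aa85971a7f94ae0122c01d767af8836557555c7afe261725948546e18f4561d8e134d982c491a2de6401c97556121f685845091f9706534a05685553264a5d56735bd2086b05a346bc49144bda49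c8b9d606636d644757e0648795a5e61d96dd76358eb3a19d0d7c3de3f50bdda37bed6f86541dcb7578ca64a4e20c57158f5855130a932d71683c564550862137b09e6d888dcc16891e00789dd9f665cd7d91552d3473d14960b52af35b9561603967265010f376f5d65453d90136d8f3b2b655d857f600d6a39c5e6545dab296186b67e592567d541b741586c5b70ca5575dcdd723186a46e972e45ccc4167356c47ca49223b9158a6955979329df3d22d1a5f788114e41ed90878a532763991ce78850f23b3dcd84ab94983ce98da8ce4ece8b7d29290415be562de94712199c22adb347ca164a68c1568828e324713d4be100da6f5c81a1075b5a3592d840a6425717863991181bd41579b180f61094ac76a90e363822b370a541435f1efa735185d576662c53f19b23a0154472e989451a59f873b18b94615c4e57515d5888a2b522a9cd5878d9f34a59d64639d48a8b984a0744a6367b0d1bb11464c9248cb0175d400575b20314c712d2625542087a57188849a314bddc8d38f1157736644d8b8254a3699877519dda478056f9783d63b522d0874775d9984f217061b558679894fd75d2260811400464fe2b44cd99f481d1dbc52b4837000e48f80c1d35102cad87689ce4438941a84cdaa266cda6e556530b68460384771858769517278a217f5265e950009c7981d61a90004000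
noncomputable def FB (u : ℕ) : ℕ := Nat.land (Nat.shiftRight FBd (Nat.mul u (nat_lit 14))) (nat_lit 16383)
noncomputable def UB : List (List ℕ) := [[nat_lit 4, nat_lit 3, nat_lit 1, nat_lit 4, nat_lit 2, nat_lit 5, nat_lit 4, nat_lit 3, nat_lit 4, nat_lit 2, nat_lit 4, nat_lit 5],
  [nat_lit 4, nat_lit 3, nat_lit 1, nat_lit 4, nat_lit 3, nat_lit 0, nat_lit 4, nat_lit 2, nat_lit 0]]
noncomputable def RB : List Root := [⟨(nat_lit 0), [], []⟩,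
  ⟨(nat_lit 1), [], []⟩,
  ⟨(nat_lit 5), [], []⟩,
  ⟨(nat_lit 31), [], []⟩,
  ⟨(nat_lit 40), [[nat_lit 0, nat_lit 3, nat_lit 4, nat_lit 3, nat_lit 1, nat_lit 4, nat_lit 2, nat_lit 1, nat_lit 5, nat_lit 4, nat_lit 3, nat_lit 4, nat_lit 3, nat_lit 0],
  [nat_lit 1, nat_lit 2, nat_lit 4, nat_lit 2, nat_lit 4, nat_lit 5, nat_lit 0, nat_lit 3, nat_lit 4, nat_lit 0, nat_lit 2, nat_lit 4, nat_lit 2, nat_lit 1],
  [nat_lit 5, nat_lit 4, nat_lit 3, nat_lit 4, nat_lit 2, nat_lit 4, nat_lit 5, nat_lit 3, nat_lit 4, nat_lit 0, nat_lit 2, nat_lit 4],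
  [nat_lit 1, nat_lit 3, nat_lit 4, nat_lit 1, nat_lit 2, nat_lit 4, nat_lit 0, nat_lit 2, nat_lit 4]], [((nat_lit 11), [nat_lit 7]),
  ((nat_lit 12), [nat_lit 8]),
  ((nat_lit 13), [nat_lit 9]),
  ((nat_lit 0), [nat_lit 13, nat_lit 11, nat_lit 12, nat_lit 13, nat_lit 7, nat_lit 13, nat_lit 12, nat_lit 12]),
  ((nat_lit 1), [nat_lit 8, nat_lit 8, nat_lit 9, nat_lit 11, nat_lit 9, nat_lit 8, nat_lit 7, nat_lit 9]),
  ((nat_lit 2), [nat_lit 11, nat_lit 12, nat_lit 13, nat_lit 11, nat_lit 11, nat_lit 8, nat_lit 13, nat_lit 12, nat_lit 13]),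
  ((nat_lit 3), [nat_lit 9, nat_lit 7, nat_lit 13, nat_lit 11, nat_lit 9, nat_lit 8, nat_lit 9, nat_lit 12, nat_lit 13, nat_lit 11, nat_lit 13]),
  ((nat_lit 4), [nat_lit 12, nat_lit 12, nat_lit 13, nat_lit 8, nat_lit 9, nat_lit 8, nat_lit 8, nat_lit 8, nat_lit 13]),
  ((nat_lit 5), [nat_lit 9, nat_lit 12, nat_lit 12, nat_lit 12, nat_lit 9, nat_lit 7, nat_lit 13, nat_lit 13, nat_lit 7, nat_lit 8])]⟩,
  ⟨(nat_lit 80), [[nat_lit 5],
  [nat_lit 5],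
  [nat_lit 5, nat_lit 4, nat_lit 3, nat_lit 4, nat_lit 2, nat_lit 4, nat_lit 5, nat_lit 3, nat_lit 4, nat_lit 0, nat_lit 2, nat_lit 4],
  [nat_lit 1, nat_lit 3, nat_lit 4, nat_lit 1, nat_lit 2, nat_lit 4, nat_lit 0, nat_lit 2, nat_lit 4]], [((nat_lit 11), [nat_lit 7]),
  ((nat_lit 12), [nat_lit 8]),
  ((nat_lit 13), [nat_lit 9]),
  ((nat_lit 0), [nat_lit 8, nat_lit 9, nat_lit 7, nat_lit 12, nat_lit 13, nat_lit 12, nat_lit 11, nat_lit 12, nat_lit 9]),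
  ((nat_lit 1), [nat_lit 13, nat_lit 8, nat_lit 7, nat_lit 8, nat_lit 9, nat_lit 8, nat_lit 11, nat_lit 13, nat_lit 12]),
  ((nat_lit 2), [nat_lit 11, nat_lit 12, nat_lit 12, nat_lit 12, nat_lit 9, nat_lit 9, nat_lit 7, nat_lit 12, nat_lit 12, nat_lit 9]),
  ((nat_lit 3), [nat_lit 7, nat_lit 13, nat_lit 8, nat_lit 8, nat_lit 7, nat_lit 13, nat_lit 13, nat_lit 8, nat_lit 8, nat_lit 8]),
  ((nat_lit 4), [nat_lit 8, nat_lit 13, nat_lit 13, nat_lit 8, nat_lit 13, nat_lit 12, nat_lit 9, nat_lit 12, nat_lit 9, nat_lit 9]),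
  ((nat_lit 5), [nat_lit 7])]⟩]
noncomputable def WyJ : List (List ℕ) := [[nat_lit 4, nat_lit 3, nat_lit 4, nat_lit 3, nat_lit 1, nat_lit 5, nat_lit 4, nat_lit 2, nat_lit 0, nat_lit 4, nat_lit 2, nat_lit 5, nat_lit 4, nat_lit 2, nat_lit 4, nat_lit 1],
  [nat_lit 5, nat_lit 2, nat_lit 4, nat_lit 2, nat_lit 0, nat_lit 4, nat_lit 5, nat_lit 4, nat_lit 2, nat_lit 0, nat_lit 4, nat_lit 2, nat_lit 5, nat_lit 4, nat_lit 3],
  [nat_lit 5, nat_lit 1, nat_lit 2, nat_lit 1, nat_lit 4, nat_lit 2, nat_lit 0, nat_lit 4, nat_lit 2, nat_lit 1, nat_lit 4, nat_lit 2, nat_lit 1, nat_lit 4, nat_lit 5],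
  [nat_lit 0, nat_lit 2, nat_lit 1, nat_lit 4, nat_lit 3, nat_lit 4, nat_lit 3, nat_lit 4, nat_lit 5, nat_lit 4, nat_lit 2, nat_lit 4, nat_lit 2, nat_lit 0, nat_lit 4, nat_lit 3, nat_lit 4, nat_lit 5],
  [nat_lit 4, nat_lit 2, nat_lit 2, nat_lit 1, nat_lit 4, nat_lit 2, nat_lit 0, nat_lit 4, nat_lit 2, nat_lit 0, nat_lit 2, nat_lit 5, nat_lit 4, nat_lit 3, nat_lit 0, nat_lit 4, nat_lit 2, nat_lit 4]]

theorem hχ_a : allZ2 (fun k i => Nat.xor (χ (G24.P k i)) (χ i)) (nat_lit 6) (nat_lit 416) = true := by decide +kernel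
theorem fA_0 : allZ (forEnt (wdsP G24.P UA) FA UA.length (nat_lit 1023) (nat_lit 416) (RA.map Root.r)) (nat_lit 0) (nat_lit 416) = true := by decide +kernel
theorem cA : 6 ≤ 7 ∧ 1 < 416 ∧ 0 < UA.length ∧ 4 < 6 ∧ G24.P 4 1 ≠ 1 ∧ allL (fixL G24.P 6 [1]) UA = true ∧
    allL (prRoot G24.P 7 G24.B 6 1 UA χ) RA = true ∧ ltAll 416 (RA.map Root.r) = 0 := by decide +kernel
theorem fB_0 : allZ (forEnt (wdsP G24.P UB) FB UB.length (nat_lit 1023) (nat_lit 416) (RB.map Root.r)) (nat_lit 0) (nat_lit 416) = true := by decide +kernel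
theorem cB : 6 ≤ 7 ∧ 31 < 416 ∧ 0 < UB.length ∧ 0 < 6 ∧ G24.P 0 31 ≠ 31 ∧ allL (fixL G24.P 6 [31]) UB = true ∧
    allL (prRoot G24.P 7 G24.B 6 31 UB χ) RB = true ∧ ltAll 416 (RB.map Root.r) = 0 := by decide +kernel
theorem sJ : allL (ltAll 6) WyJ = true ∧ allL (fixL (wdsP G24.P WyJ) 5 G24.B) J2.Rl = true ∧ 0 < 5 ∧
    ltAll 6 (nth [] WyJ 0) = 0 ∧ 2 < 416 ∧ apW G24.P (nth [] WyJ 0) 2 ≠ 2 := by decide +kernel
theorem rt : G24.Rs.map Root.r = [1, 31] ∧ G24.l0.Pt 0 = 0 ∧ chainCard [G24.l1, G24.l2, G24.l3] = 604800 := by decide +kernel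

theorem hχ : ∀ k < 6, ∀ i < 416, (fun k i => Nat.xor (χ (G24.P k i)) (χ i)) k i = 0 := allZ2_sound hχ_a
theorem fA : ∀ i < 416, (forEnt (wdsP G24.P UA) FA UA.length (nat_lit 1023) (nat_lit 416) (RA.map Root.r)) i = 0 := allZ_sound0 fA_0
theorem coA : IsCoatom (MulAction.stabilizer (gen G24.g 6) (ptF 416 1)) :=
  coatom_stab G24.act (ptF_inj _) G24.Blt G24.isBase hχ fA cA
theorem fB : ∀ i < 416, (forEnt (wdsP G24.P UB) FB UB.length (nat_lit 1023) (nat_lit 416) (RB.map Root.r)) i = 0 := allZ_sound0 fB_0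
theorem coB : IsCoatom (MulAction.stabilizer (gen G24.g 6) (ptF 416 31)) :=
  coatom_stab G24.act (ptF_inj _) G24.Blt G24.isBase hχ fB cB
theorem j2 : Nonempty (gen G24.g 6 ≃* Cfsg.Spor.J2) := by
  obtain ⟨⟨e⟩, h⟩ := sub_model J2.bound J2.rels J2.card J2.simple (G24.act.mono (by decide)) (ptF_inj _) G24.Blt
    (G24.isBase.mono (gen_mono _ (by decide))) sJ
  obtain ⟨f, c⟩ := G24.chain.tail.card (ptF_inj _)
  have : Finite (gen G24.g 6) := f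
  have c' : Nat.card (gen G24.g 6) = 604800 := c.trans rt.2.2
  have := Subgroup.eq_of_le_of_card_ge h (c'.trans ((Nat.card_congr e.toEquiv).symm.trans J2.card).symm).le
  exact ⟨(MulEquiv.subgroupCongr this).symm.trans (e.symm.trans H15.J2L.equiv.symm)⟩
theorem main {Γ : Type*} [Group Γ] (e : gen G24.g 7 ≃* Γ) : ∃ H : Subgroup Γ, IsCoatom H ∧ Cfsg.Spor.IsoJ2 H ∧
    ∀ x ∉ H, IsCoatom ((H ⊓ H.map (MulAut.conj x).toMonoidHom).subgroupOf H) := by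
  have hL : IsChain G24.g (ptF 416) 416 (G24.l0 :: [G24.l1, G24.l2, G24.l3]) := G24.chain
  obtain ⟨H, h1, ⟨f⟩, h2⟩ := ep_congr (Γ := gen G24.g G24.l0.K) e (G24.maxCert.isCoatom hL (ptF_inj _) (by decide))
    (ep_of hL (ptF_inj _) (Rt := G24.Rs.map Root.r)
      (rt.2.1 ▸ forest_sound (G24.act.mono (by decide)) (by decide) G24.Foe) (by
        rw [rt.1]
        intro r hr
        simp only [List.mem_cons, List.not_mem_nil, or_false] at hr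
        rcases hr with rfl | rfl
        exacts [coA, coB]))
  exact ⟨H, h1, ⟨f.trans ((hL.stabilizerEquiv (ptF_inj _)).trans j2.some)⟩, h2⟩

end H16.G24E
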