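import Cfsg.Agent.H16.P.He.C0

/-! Generated by tools/h16 (computation kit). -/

set_option maxRecDepth 100000
set_option maxHeartbeats 0

namespace H16.PHe

theorem tcte_0 : ∀ i < 5095, (ent2 Tt Et (selR RLt It) Dt (nat_lit 8191) (nat_lit 2058) (nat_lit 2058) (nat_lit 5095) (nat_lit 7) (nat_lit 65535) (nat_lit 4) (nat_lit 0)) i = 0 := allZ_sound0 tcte_0_0
theorem tcte_1 : ∀ i < 5095, (ent2 Tt Et (selR RLt It) Dt (nat_lit 8191) (nat_lit 2058) (nat_lit 2058) (nat_lit 5095) (nat_lit 7) (nat_lit 65535) (nat_lit 4) (nat_lit 1)) i = 0 := allZ_sound0 tcte_1_0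
theorem tcte_2 : ∀ i < 5095, (ent2 Tt Et (selR RLt It) Dt (nat_lit 8191) (nat_lit 2058) (nat_lit 2058) (nat_lit 5095) (nat_lit 7) (nat_lit 65535) (nat_lit 4) (nat_lit 2)) i = 0 := allZ_sound0 tcte_2_0
theorem tcte_3 : ∀ i < 5095, (ent2 Tt Et (selR RLt It) Dt (nat_lit 8191) (nat_lit 2058) (nat_lit 2058) (nat_lit 5095) (nat_lit 7) (nat_lit 65535) (nat_lit 4) (nat_lit 3)) i = 0 := allZ_sound0 tcte_3_0
theorem tcte_4 : ∀ i < 5095, (ent2 Tt Et (selR RLt It) Dt (nat_lit 8191) (nat_lit 2058) (nat_lit 2058) (nat_lit 5095) (nat_lit 7) (nat_lit 65535) (nat_lit 4) (nat_lit 4)) i = 0 := allZ_sound0 tcte_4_0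
theorem tcte_5 : ∀ i < 5095, (ent2 Tt Et (selR RLt It) Dt (nat_lit 8191) (nat_lit 2058) (nat_lit 2058) (nat_lit 5095) (nat_lit 7) (nat_lit 65535) (nat_lit 4) (nat_lit 5)) i = 0 := allZ_sound0 tcte_5_0
theorem tcte_6 : ∀ i < 5095, (ent2 Tt Et (selR RLt It) Dt (nat_lit 8191) (nat_lit 2058) (nat_lit 2058) (nat_lit 5095) (nat_lit 7) (nat_lit 65535) (nat_lit 4) (nat_lit 6)) i = 0 := allZ_sound0 tcte_6_0
theorem tcte : ∀ k < 7, ∀ i < 5095, (ent2 Tt Et (selR RLt It) Dt (nat_lit 8191) (nat_lit 2058) (nat_lit 2058) (nat_lit 5095) (nat_lit 7) (nat_lit 65535) (nat_lit 4)) k i = 0 :=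
  letters_glue (letters_glue (letters_glue (letters_glue (letters_glue (letters_glue (letters_glue (letters_nil) tcte_0) tcte_1) tcte_2) tcte_3) tcte_4) tcte_5) tcte_6
theorem tctp : ∀ i < 3037, (eps2 Tt Et Jt Wt RLt (nat_lit 8191) (nat_lit 2058) (nat_lit 5095) (nat_lit 7) (nat_lit 4)) i = 0 := allZ_sound0 tctp_0
theorem tct : ct.OK Rl 7 := ⟨tctn, ivc, tctr, tcte, fun i h => tctp i (lt_of_lt_of_eq h tctq)⟩
theorem ptc_g0 : ∀ i < 576, (ptChk P ivf (nat_lit 2058) (nat_lit 7) (nat_lit 7) XW Jb) i = 0 := allZ_sound0 ptc_0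
theorem ptc_g1 : ∀ i < 1152, (ptChk P ivf (nat_lit 2058) (nat_lit 7) (nat_lit 7) XW Jb) i = 0 := range_glue ptc_g0 ptc_1
theorem ptc_g2 : ∀ i < 1728, (ptChk P ivf (nat_lit 2058) (nat_lit 7) (nat_lit 7) XW Jb) i = 0 := range_glue ptc_g1 ptc_2
theorem ptc : ∀ i < 2058, (ptChk P ivf (nat_lit 2058) (nat_lit 7) (nat_lit 7) XW Jb) i = 0 := range_glue ptc_g2 ptc_3
/-- the letters of the presentation as permutations -/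
noncomputable def g : ℕ → Equiv.Perm (Fin 2058) := permGen 2058 P
theorem act : Act g (ptF 2058) P 2058 7 := (rels_fast ptc jbc.1 jbc.2).1
theorem rels : Rels g Rl := (rels_fast ptc jbc.1 jbc.2).2
theorem tcxe : ∀ k < 5, ∀ i < 110, (ent2 Tx Ex (selR RLx Ix) Dx (nat_lit 127) (nat_lit 109) (nat_lit 0) (nat_lit 110) (nat_lit 5) (nat_lit 1023) (nat_lit 1)) k i = 0 := allZ2_sound tcxe_a
theorem tcxp : ∀ i < 1, (eps2 Tx Ex Jx Wx RLx (nat_lit 127) (nat_lit 109) (nat_lit 110) (nat_lit 5) (nat_lit 1)) i = 0 := allZ_sound0 tcxp_0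
theorem tcx : cx.OK Rlx 5 := ⟨tcxn, ivcx, tcxr, tcxe, fun i h => tcxp i (lt_of_lt_of_eq h tcxq)⟩
theorem imp1 : Imp Rl Rx1 := eqx1 ▸ (Imp.goal0 tcx subx glx)
theorem tcm4e : ∀ k < 4, ∀ i < 168, (ent2 Tm4 Em4 (selR RLm4 Im4) Dm4 (nat_lit 255) (nat_lit 168) (nat_lit 168) (nat_lit 168) (nat_lit 4) (nat_lit 1023) (nat_lit 0)) k i = 0 := allZ2_sound tcm4e_a
theorem tcm4p : ∀ i < 0, (eps2 Tm4 Em4 Jm4 Wm4 RLm4 (nat_lit 255) (nat_lit 168) (nat_lit 168) (nat_lit 4) (nat_lit 0)) i = 0 := allZ_sound0 tcm4p_0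
theorem tcm4 : cm4.OK Rx1 7 := ⟨tcm4n, ivx1, tcm4r, tcm4e, fun i h => tcm4p i (lt_of_lt_of_eq h tcm4q)⟩
theorem bdm4 : Bound Rx1 4 168 := Bound.step2 (Bound.zero Rx1) tcm4 stm4
theorem tcm6e : ∀ k < 6, ∀ i < 488, (ent2 Tm6 Em6 (selR RLm6 Im6) Dm6 (nat_lit 511) (nat_lit 480) (nat_lit 480) (nat_lit 488) (nat_lit 6) (nat_lit 4095) (nat_lit 1)) k i = 0 := allZ2_sound tcm6e_a
theorem tcm6p : ∀ i < 8, (eps2 Tm6 Em6 Jm6 Wm6 RLm6 (nat_lit 511) (nat_lit 480) (nat_lit 488) (nat_lit 6) (nat_lit 1)) i = 0 := allZ_sound0 tcm6p_0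
theorem tcm6 : cm6.OK Rx1 7 := ⟨tcm6n, ivx1, tcm6r, tcm6e, fun i h => tcm6p i (lt_of_lt_of_eq h tcm6q)⟩
theorem bdm6 : Bound Rx1 6 80640 := Bound.step2 (bdm4) tcm6 stm6
theorem tcm7e_0_g0 : ∀ i < 11136, (ent2 Tm7 Em7 (selR RLm7 Im7) Dm7 (nat_lit 65535) (nat_lit 49980) (nat_lit 49980) (nat_lit 50344) (nat_lit 7) (nat_lit 524287) (nat_lit 1) (nat_lit 0)) i = 0 := allZ_sound0 tcm7e_0_0
theorem tcm7e_0_g1 : ∀ i < 22272, (ent2 Tm7 Em7 (selR RLm7 Im7) Dm7 (nat_lit 65535) (nat_lit 49980) (nat_lit 49980) (nat_lit 50344) (nat_lit 7) (nat_lit 524287) (nat_lit 1) (nat_lit 0)) i = 0 := range_glue tcm7e_0_g0 tcm7e_0_1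
theorem tcm7e_0_g2 : ∀ i < 33408, (ent2 Tm7 Em7 (selR RLm7 Im7) Dm7 (nat_lit 65535) (nat_lit 49980) (nat_lit 49980) (nat_lit 50344) (nat_lit 7) (nat_lit 524287) (nat_lit 1) (nat_lit 0)) i = 0 := range_glue tcm7e_0_g1 tcm7e_0_2
theorem tcm7e_0_g3 : ∀ i < 44544, (ent2 Tm7 Em7 (selR RLm7 Im7) Dm7 (nat_lit 65535) (nat_lit 49980) (nat_lit 49980) (nat_lit 50344) (nat_lit 7) (nat_lit 524287) (nat_lit 1) (nat_lit 0)) i = 0 := range_glue tcm7e_0_g2 tcm7e_0_3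
theorem tcm7e_0 : ∀ i < 50344, (ent2 Tm7 Em7 (selR RLm7 Im7) Dm7 (nat_lit 65535) (nat_lit 49980) (nat_lit 49980) (nat_lit 50344) (nat_lit 7) (nat_lit 524287) (nat_lit 1) (nat_lit 0)) i = 0 := range_glue tcm7e_0_g3 tcm7e_0_4
theorem tcm7e_1_g0 : ∀ i < 11776, (ent2 Tm7 Em7 (selR RLm7 Im7) Dm7 (nat_lit 65535) (nat_lit 49980) (nat_lit 49980) (nat_lit 50344) (nat_lit 7) (nat_lit 524287) (nat_lit 1) (nat_lit 1)) i = 0 := allZ_sound0 tcm7e_1_0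
theorem tcm7e_1_g1 : ∀ i < 23552, (ent2 Tm7 Em7 (selR RLm7 Im7) Dm7 (nat_lit 65535) (nat_lit 49980) (nat_lit 49980) (nat_lit 50344) (nat_lit 7) (nat_lit 524287) (nat_lit 1) (nat_lit 1)) i = 0 := range_glue tcm7e_1_g0 tcm7e_1_1
theorem tcm7e_1_g2 : ∀ i < 35328, (ent2 Tm7 Em7 (selR RLm7 Im7) Dm7 (nat_lit 65535) (nat_lit 49980) (nat_lit 49980) (nat_lit 50344) (nat_lit 7) (nat_lit 524287) (nat_lit 1) (nat_lit 1)) i = 0 := range_glue tcm7e_1_g1 tcm7e_1_2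
theorem tcm7e_1_g3 : ∀ i < 47104, (ent2 Tm7 Em7 (selR RLm7 Im7) Dm7 (nat_lit 65535) (nat_lit 49980) (nat_lit 49980) (nat_lit 50344) (nat_lit 7) (nat_lit 524287) (nat_lit 1) (nat_lit 1)) i = 0 := range_glue tcm7e_1_g2 tcm7e_1_3
theorem tcm7e_1 : ∀ i < 50344, (ent2 Tm7 Em7 (selR RLm7 Im7) Dm7 (nat_lit 65535) (nat_lit 49980) (nat_lit 49980) (nat_lit 50344) (nat_lit 7) (nat_lit 524287) (nat_lit 1) (nat_lit 1)) i = 0 := range_glue tcm7e_1_g3 tcm7e_1_4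
theorem tcm7e_2_g0 : ∀ i < 11776, (ent2 Tm7 Em7 (selR RLm7 Im7) Dm7 (nat_lit 65535) (nat_lit 49980) (nat_lit 49980) (nat_lit 50344) (nat_lit 7) (nat_lit 524287) (nat_lit 1) (nat_lit 2)) i = 0 := allZ_sound0 tcm7e_2_0
theorem tcm7e_2_g1 : ∀ i < 23552, (ent2 Tm7 Em7 (selR RLm7 Im7) Dm7 (nat_lit 65535) (nat_lit 49980) (nat_lit 49980) (nat_lit 50344) (nat_lit 7) (nat_lit 524287) (nat_lit 1) (nat_lit 2)) i = 0 := range_glue tcm7e_2_g0 tcm7e_2_1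
theorem tcm7e_2_g2 : ∀ i < 35328, (ent2 Tm7 Em7 (selR RLm7 Im7) Dm7 (nat_lit 65535) (nat_lit 49980) (nat_lit 49980) (nat_lit 50344) (nat_lit 7) (nat_lit 524287) (nat_lit 1) (nat_lit 2)) i = 0 := range_glue tcm7e_2_g1 tcm7e_2_2
theorem tcm7e_2_g3 : ∀ i < 47104, (ent2 Tm7 Em7 (selR RLm7 Im7) Dm7 (nat_lit 65535) (nat_lit 49980) (nat_lit 49980) (nat_lit 50344) (nat_lit 7) (nat_lit 524287) (nat_lit 1) (nat_lit 2)) i = 0 := range_glue tcm7e_2_g2 tcm7e_2_3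
theorem tcm7e_2 : ∀ i < 50344, (ent2 Tm7 Em7 (selR RLm7 Im7) Dm7 (nat_lit 65535) (nat_lit 49980) (nat_lit 49980) (nat_lit 50344) (nat_lit 7) (nat_lit 524287) (nat_lit 1) (nat_lit 2)) i = 0 := range_glue tcm7e_2_g3 tcm7e_2_4
theorem tcm7e_3_g0 : ∀ i < 11840, (ent2 Tm7 Em7 (selR RLm7 Im7) Dm7 (nat_lit 65535) (nat_lit 49980) (nat_lit 49980) (nat_lit 50344) (nat_lit 7) (nat_lit 524287) (nat_lit 1) (nat_lit 3)) i = 0 := allZ_sound0 tcm7e_3_0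
theorem tcm7e_3_g1 : ∀ i < 23680, (ent2 Tm7 Em7 (selR RLm7 Im7) Dm7 (nat_lit 65535) (nat_lit 49980) (nat_lit 49980) (nat_lit 50344) (nat_lit 7) (nat_lit 524287) (nat_lit 1) (nat_lit 3)) i = 0 := range_glue tcm7e_3_g0 tcm7e_3_1
theorem tcm7e_3_g2 : ∀ i < 35520, (ent2 Tm7 Em7 (selR RLm7 Im7) Dm7 (nat_lit 65535) (nat_lit 49980) (nat_lit 49980) (nat_lit 50344) (nat_lit 7) (nat_lit 524287) (nat_lit 1) (nat_lit 3)) i = 0 := range_glue tcm7e_3_g1 tcm7e_3_2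
theorem tcm7e_3_g3 : ∀ i < 47360, (ent2 Tm7 Em7 (selR RLm7 Im7) Dm7 (nat_lit 65535) (nat_lit 49980) (nat_lit 49980) (nat_lit 50344) (nat_lit 7) (nat_lit 524287) (nat_lit 1) (nat_lit 3)) i = 0 := range_glue tcm7e_3_g2 tcm7e_3_3
theorem tcm7e_3 : ∀ i < 50344, (ent2 Tm7 Em7 (selR RLm7 Im7) Dm7 (nat_lit 65535) (nat_lit 49980) (nat_lit 49980) (nat_lit 50344) (nat_lit 7) (nat_lit 524287) (nat_lit 1) (nat_lit 3)) i = 0 := range_glue tcm7e_3_g3 tcm7e_3_4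
theorem tcm7e_4_g0 : ∀ i < 11712, (ent2 Tm7 Em7 (selR RLm7 Im7) Dm7 (nat_lit 65535) (nat_lit 49980) (nat_lit 49980) (nat_lit 50344) (nat_lit 7) (nat_lit 524287) (nat_lit 1) (nat_lit 4)) i = 0 := allZ_sound0 tcm7e_4_0
theorem tcm7e_4_g1 : ∀ i < 23424, (ent2 Tm7 Em7 (selR RLm7 Im7) Dm7 (nat_lit 65535) (nat_lit 49980) (nat_lit 49980) (nat_lit 50344) (nat_lit 7) (nat_lit 524287) (nat_lit 1) (nat_lit 4)) i = 0 := range_glue tcm7e_4_g0 tcm7e_4_1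
theorem tcm7e_4_g2 : ∀ i < 35136, (ent2 Tm7 Em7 (selR RLm7 Im7) Dm7 (nat_lit 65535) (nat_lit 49980) (nat_lit 49980) (nat_lit 50344) (nat_lit 7) (nat_lit 524287) (nat_lit 1) (nat_lit 4)) i = 0 := range_glue tcm7e_4_g1 tcm7e_4_2
theorem tcm7e_4_g3 : ∀ i < 46848, (ent2 Tm7 Em7 (selR RLm7 Im7) Dm7 (nat_lit 65535) (nat_lit 49980) (nat_lit 49980) (nat_lit 50344) (nat_lit 7) (nat_lit 524287) (nat_lit 1) (nat_lit 4)) i = 0 := range_glue tcm7e_4_g2 tcm7e_4_3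
theorem tcm7e_4 : ∀ i < 50344, (ent2 Tm7 Em7 (selR RLm7 Im7) Dm7 (nat_lit 65535) (nat_lit 49980) (nat_lit 49980) (nat_lit 50344) (nat_lit 7) (nat_lit 524287) (nat_lit 1) (nat_lit 4)) i = 0 := range_glue tcm7e_4_g3 tcm7e_4_4
theorem tcm7e_5_g0 : ∀ i < 12224, (ent2 Tm7 Em7 (selR RLm7 Im7) Dm7 (nat_lit 65535) (nat_lit 49980) (nat_lit 49980) (nat_lit 50344) (nat_lit 7) (nat_lit 524287) (nat_lit 1) (nat_lit 5)) i = 0 := allZ_sound0 tcm7e_5_0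
theorem tcm7e_5_g1 : ∀ i < 24448, (ent2 Tm7 Em7 (selR RLm7 Im7) Dm7 (nat_lit 65535) (nat_lit 49980) (nat_lit 49980) (nat_lit 50344) (nat_lit 7) (nat_lit 524287) (nat_lit 1) (nat_lit 5)) i = 0 := range_glue tcm7e_5_g0 tcm7e_5_1
theorem tcm7e_5_g2 : ∀ i < 36672, (ent2 Tm7 Em7 (selR RLm7 Im7) Dm7 (nat_lit 65535) (nat_lit 49980) (nat_lit 49980) (nat_lit 50344) (nat_lit 7) (nat_lit 524287) (nat_lit 1) (nat_lit 5)) i = 0 := range_glue tcm7e_5_g1 tcm7e_5_2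
theorem tcm7e_5_g3 : ∀ i < 48896, (ent2 Tm7 Em7 (selR RLm7 Im7) Dm7 (nat_lit 65535) (nat_lit 49980) (nat_lit 49980) (nat_lit 50344) (nat_lit 7) (nat_lit 524287) (nat_lit 1) (nat_lit 5)) i = 0 := range_glue tcm7e_5_g2 tcm7e_5_3
theorem tcm7e_5 : ∀ i < 50344, (ent2 Tm7 Em7 (selR RLm7 Im7) Dm7 (nat_lit 65535) (nat_lit 49980) (nat_lit 49980) (nat_lit 50344) (nat_lit 7) (nat_lit 524287) (nat_lit 1) (nat_lit 5)) i = 0 := range_glue tcm7e_5_g3 tcm7e_5_4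
theorem tcm7e_6_g0 : ∀ i < 12160, (ent2 Tm7 Em7 (selR RLm7 Im7) Dm7 (nat_lit 65535) (nat_lit 49980) (nat_lit 49980) (nat_lit 50344) (nat_lit 7) (nat_lit 524287) (nat_lit 1) (nat_lit 6)) i = 0 := allZ_sound0 tcm7e_6_0
theorem tcm7e_6_g1 : ∀ i < 24320, (ent2 Tm7 Em7 (selR RLm7 Im7) Dm7 (nat_lit 65535) (nat_lit 49980) (nat_lit 49980) (nat_lit 50344) (nat_lit 7) (nat_lit 524287) (nat_lit 1) (nat_lit 6)) i = 0 := range_glue tcm7e_6_g0 tcm7e_6_1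
theorem tcm7e_6_g2 : ∀ i < 36480, (ent2 Tm7 Em7 (selR RLm7 Im7) Dm7 (nat_lit 65535) (nat_lit 49980) (nat_lit 49980) (nat_lit 50344) (nat_lit 7) (nat_lit 524287) (nat_lit 1) (nat_lit 6)) i = 0 := range_glue tcm7e_6_g1 tcm7e_6_2
theorem tcm7e_6_g3 : ∀ i < 48640, (ent2 Tm7 Em7 (selR RLm7 Im7) Dm7 (nat_lit 65535) (nat_lit 49980) (nat_lit 49980) (nat_lit 50344) (nat_lit 7) (nat_lit 524287) (nat_lit 1) (nat_lit 6)) i = 0 := range_glue tcm7e_6_g2 tcm7e_6_3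
theorem tcm7e_6 : ∀ i < 50344, (ent2 Tm7 Em7 (selR RLm7 Im7) Dm7 (nat_lit 65535) (nat_lit 49980) (nat_lit 49980) (nat_lit 50344) (nat_lit 7) (nat_lit 524287) (nat_lit 1) (nat_lit 6)) i = 0 := range_glue tcm7e_6_g3 tcm7e_6_4
theorem tcm7e : ∀ k < 7, ∀ i < 50344, (ent2 Tm7 Em7 (selR RLm7 Im7) Dm7 (nat_lit 65535) (nat_lit 49980) (nat_lit 49980) (nat_lit 50344) (nat_lit 7) (nat_lit 524287) (nat_lit 1)) k i = 0 :=
  letters_glue (letters_glue (letters_glue (letters_glue (letters_glue (letters_glue (letters_glue (letters_nil) tcm7e_0) tcm7e_1) tcm7e_2) tcm7e_3) tcm7e_4) tcm7e_5) tcm7e_6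
theorem tcm7p : ∀ i < 364, (eps2 Tm7 Em7 Jm7 Wm7 RLm7 (nat_lit 65535) (nat_lit 49980) (nat_lit 50344) (nat_lit 7) (nat_lit 1)) i = 0 := allZ_sound0 tcm7p_0
theorem tcm7 : cm7.OK Rx1 7 := ⟨tcm7n, ivx1, tcm7r, tcm7e, fun i h => tcm7p i (lt_of_lt_of_eq h tcm7q)⟩
theorem bdm7 : Bound Rx1 7 4030387200 := Bound.step2 (bdm6) tcm7 stm7
theorem bound : Bound Rl 7 4030387200 := imp1.bound bdm7
theorem lv_6e : ∀ i < 1, (l_6.ent (wdsP P Ws)) i = 0 := allZ_sound0 lv_6e_0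
theorem lv_5e : ∀ i < 3, (l_5.ent (wdsP P Ws)) i = 0 := allZ_sound0 lv_5e_0
theorem lv_4e : ∀ i < 1, (l_4.ent (wdsP P Ws)) i = 0 := allZ_sound0 lv_4e_0
theorem lv_3e : ∀ i < 14, (l_3.ent (wdsP P Ws)) i = 0 := allZ_sound0 lv_3e_0
theorem lv_2e : ∀ i < 59, (l_2.ent (wdsP P Ws)) i = 0 := allZ_sound0 lv_2e_0
theorem lv_1e : ∀ i < 135, (l_1.ent (wdsP P Ws)) i = 0 := allZ_sound0 lv_1e_0
theorem lv_0e : ∀ i < 2057, (l_0.ent (wdsP P Ws)) i = 0 := allZ_sound0 lv_0e_0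
theorem low : LowChain (wdsP P Ws) 2058 L :=
  ⟨⟨lv_0b.1, lv_0b.2.1, lv_0b.2.2.1, lv_0b.2.2.2.1, lv_0e⟩, lv_0b.2.2.2.2.1, lv_0b.2.2.2.2.2, ⟨⟨lv_1b.1, lv_1b.2.1, lv_1b.2.2.1, lv_1b.2.2.2.1, lv_1e⟩, lv_1b.2.2.2.2.1, lv_1b.2.2.2.2.2, ⟨⟨lv_2b.1, lv_2b.2.1, lv_2b.2.2.1, lv_2b.2.2.2.1, lv_2e⟩, lv_2b.2.2.2.2.1, lv_2b.2.2.2.2.2, ⟨⟨lv_3b.1, lv_3b.2.1, lv_3b.2.2.1, lv_3b.2.2.2.1, lv_3e⟩, lv_3b.2.2.2.2.1, lv_3b.2.2.2.2.2, ⟨⟨lv_4b.1, lv_4b.2.1, lv_4b.2.2.1, lv_4b.2.2.2.1, lv_4e⟩, lv_4b.2.2.2.2.1, lv_4b.2.2.2.2.2, ⟨⟨lv_5b.1, lv_5b.2.1, lv_5b.2.2.1, lv_5b.2.2.2.1, lv_5e⟩, lv_5b.2.2.2.2.1, lv_5b.2.2.2.2.2, ⟨⟨lv_6b.1, lv_6b.2.1, lv_6b.2.2.1, lv_6b.2.2.2.1, lv_6e⟩, lv_6b.2.2.2.2.1, lv_6b.2.2.2.2.2, trivial⟩⟩⟩⟩⟩⟩⟩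
theorem exact : Nat.card (gen g 7) = 4030387200 ∧ IsBase (gen g 7) (ptF 2058) B ∧
    gen (wds g Ws) 16 = gen g 7 ∧ IsChain (wds g Ws) (ptF 2058) 2058 L :=
  low_card (act) (ptF_inj 2058) low (bound.le rels) exc base
theorem card : Nat.card (gen g 7) = 4030387200 := exact.1
theorem isBase : IsBase (gen g 7) (ptF 2058) B := exact.2.1
theorem gen_eq : gen (wds g Ws) 16 = gen g 7 := exact.2.2.1
theorem chain : IsChain (wds g Ws) (ptF 2058) 2058 L := exact.2.2.2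
theorem Blt : ltAll 2058 B = 0 := base.2.1
theorem trans_all : ∀ i < 2058, ∃ a ∈ gen g 7, a • ptF 2058 0 = ptF 2058 i :=
  trans_low gen_eq chain trc rfl
theorem Foe : ∀ i < 2058, (forEnt (wdsP P Ws) Fo (nat_lit 14) (nat_lit 32767) (nat_lit 2058) ((nat_lit 0) :: Rs.map Root.r)) i = 0 := allZ_sound0 Foe_0
theorem maxCert : MaxCert (wds g Ws) (ptF 2058) 2058 l_0.K (topK [l_1, l_2, l_3, l_4, l_5, l_6]) (l_0.Pt 0) :=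
  maxCert_low (act) exc gen_eq Blt isBase Foe rtc mxc
theorem simple : IsSimpleGroup (gen g 7) :=
  simple_of_low (act) (ptF_inj 2058) (rels) ivc gen_eq mxc.1.1 chain maxCert Blt isBase nc1 nc2

end H16.PHe
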