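import Cfsg.Agent.H16.P.J3C.C0
import Cfsg.Agent.H16.P.J3C.C1

/-! Generated by tools/h0/tr.py. -/

set_option maxRecDepth 100000
set_option maxHeartbeats 0
set_option Elab.async false

namespace H16.J3C
open H16 H0.TR
open scoped commutatorElement

theorem md {G : Type*} [Group G] (e : gen H16.J3.g 4 ≃* G) :
    ∃ (_ : MulAction G (Fin 6156)) (g : ℕ → G), Md g (ptF 6156) H16.J3.P 6156 4 H16.J3.B 50232960 ∧
      ∀ k < 4, (e.symm (g k)).1 = H16.J3.g k :=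
  exists_md H16.J3.act (ptF_inj 6156) H16.J3.card H16.J3.isBase md_b e
theorem x_act {G Ω : Type*} [Group G] [MulAction G Ω] {g : ℕ → G} {pt : ℕ → Ω}
    (M : Md g pt H16.J3.P 6156 4 H16.J3.B 50232960) : Act (wds g x_W) pt x_P 6156 1 :=
  M.wact x_lt
theorem a_m_0 : ∀ i < 6156, (matEnt (wdsP H16.J3.P a_W) a_P (nat_lit 0)) i = 0 := range_glue (allZ_sound0 a_m_0_0) a_m_0_1
theorem a_m_1 : ∀ i < 6156, (matEnt (wdsP H16.J3.P a_W) a_P (nat_lit 1)) i = 0 := range_glue (allZ_sound0 a_m_1_0) a_m_1_1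
theorem a_m_2 : ∀ i < 6156, (matEnt (wdsP H16.J3.P a_W) a_P (nat_lit 2)) i = 0 := range_glue (allZ_sound0 a_m_2_0) a_m_2_1
theorem a_m_3 : ∀ i < 6156, (matEnt (wdsP H16.J3.P a_W) a_P (nat_lit 3)) i = 0 := range_glue (allZ_sound0 a_m_3_0) a_m_3_1
theorem a_m_4 : ∀ i < 6156, (matEnt (wdsP H16.J3.P a_W) a_P (nat_lit 4)) i = 0 := range_glue (allZ_sound0 a_m_4_0) a_m_4_1
theorem a_m : ∀ k < 5, ∀ i < 6156, (matEnt (wdsP H16.J3.P a_W) a_P) k i = 0 :=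
  letters_glue (letters_glue (letters_glue (letters_glue (letters_glue (letters_nil) a_m_0) a_m_1) a_m_2) a_m_3) a_m_4
theorem a_act {G Ω : Type*} [Group G] [MulAction G Ω] {g : ℕ → G} {pt : ℕ → Ω}
    (M : Md g pt H16.J3.P 6156 4 H16.J3.B 50232960) : Act (wds g a_W) pt a_P 6156 5 :=
  act_mat (M.wact a_lt) a_m
theorem ar {G Ω : Type*} [Group G] [MulAction G Ω] {g : ℕ → G} {pt : ℕ → Ω}
    (M : Md g pt H16.J3.P 6156 4 H16.J3.B 50232960) : Rels (wds g a_W) H15.XJ2I.Rl :=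
  rels_of_base (a_act M) M.ltB (M.base.mono le_top) ar_k
theorem ch_act {G Ω : Type*} [Group G] [MulAction G Ω] {g : ℕ → G} {pt : ℕ → Ω}
    (M : Md g pt H16.J3.P 6156 4 H16.J3.B 50232960) : Act (wds g ch_W) pt ch_P 6156 12 :=
  M.wact ch_lt
theorem cl0_e : ∀ i < 6155, (dent cl0 ch_P (nat_lit 6156)) i = 0 := allZ_sound0 cl0_e_0
theorem cl0_ok : DOK cl0 ch_P 6156 := ⟨cl0_h, cl0_e⟩
theorem cl1_e : ∀ i < 84, (dent cl1 ch_P (nat_lit 6156)) i = 0 := allZ_sound0 cl1_e_0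
theorem cl1_ok : DOK cl1 ch_P 6156 := ⟨cl1_h, cl1_e⟩
theorem cl2_e : ∀ i < 5, (dent cl2 ch_P (nat_lit 6156)) i = 0 := allZ_sound0 cl2_e_0
theorem cl2_ok : DOK cl2 ch_P 6156 := ⟨cl2_h, cl2_e⟩
theorem cl3_e : ∀ i < 1, (dent cl3 ch_P (nat_lit 6156)) i = 0 := allZ_sound0 cl3_e_0
theorem cl3_ok : DOK cl3 ch_P 6156 := ⟨cl3_h, cl3_e⟩
theorem cl4_e : ∀ i < 1, (dent cl4 ch_P (nat_lit 6156)) i = 0 := allZ_sound0 cl4_e_0
theorem cl4_ok : DOK cl4 ch_P 6156 := ⟨cl4_h, cl4_e⟩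
theorem cl5_e : ∀ i < 1, (dent cl5 ch_P (nat_lit 6156)) i = 0 := allZ_sound0 cl5_e_0
theorem cl5_ok : DOK cl5 ch_P 6156 := ⟨cl5_h, cl5_e⟩
theorem cl6_e : ∀ i < 1, (dent cl6 ch_P (nat_lit 6156)) i = 0 := allZ_sound0 cl6_e_0
theorem cl6_ok : DOK cl6 ch_P 6156 := ⟨cl6_h, cl6_e⟩
theorem c_low {G Ω : Type*} [Group G] [MulAction G Ω] {g : ℕ → G} {pt : ℕ → Ω}
    (M : Md g pt H16.J3.P 6156 4 H16.J3.B 50232960) : SLow (gi (wds g ch_W)) pt 6156 [cl0, cl1, cl2, cl3, cl4, cl5, cl6] :=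
  (((((((SLow.nil).cons cl6_ok (ch_act M) c_f6).cons cl5_ok (ch_act M) c_f5).cons cl4_ok (ch_act M) c_f4).cons cl3_ok (ch_act M) c_f3).cons cl2_ok (ch_act M) c_f2).cons cl1_ok (ch_act M) c_f1).cons cl0_ok (ch_act M) c_f0
theorem c_S0 {G Ω : Type*} [Group G] [MulAction G Ω] {g : ℕ → G} {pt : ℕ → Ω}
    (M : Md g pt H16.J3.P 6156 4 H16.J3.B 50232960) : Stage ⊤ (wds g ch_W) pt 6156 [cl0, cl1, cl2, cl3, cl4, cl5, cl6] [] :=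
  M.stage (c_low M) c_c
theorem c_S1 {G Ω : Type*} [Group G] [MulAction G Ω] {g : ℕ → G} {pt : ℕ → Ω}
    (M : Md g pt H16.J3.P 6156 4 H16.J3.B 50232960) : Stage ⊤ (wds g ch_W) pt 6156 [cl1, cl2, cl3, cl4, cl5, cl6] [cl0.Pt 0] :=
  (c_S0 M).next
theorem c_S2 {G Ω : Type*} [Group G] [MulAction G Ω] {g : ℕ → G} {pt : ℕ → Ω}
    (M : Md g pt H16.J3.P 6156 4 H16.J3.B 50232960) : Stage ⊤ (wds g ch_W) pt 6156 [cl2, cl3, cl4, cl5, cl6] [cl1.Pt 0, cl0.Pt 0] :=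
  (c_S1 M).next
theorem c_S3 {G Ω : Type*} [Group G] [MulAction G Ω] {g : ℕ → G} {pt : ℕ → Ω}
    (M : Md g pt H16.J3.P 6156 4 H16.J3.B 50232960) : Stage ⊤ (wds g ch_W) pt 6156 [cl3, cl4, cl5, cl6] [cl2.Pt 0, cl1.Pt 0, cl0.Pt 0] :=
  (c_S2 M).next
theorem c_S4 {G Ω : Type*} [Group G] [MulAction G Ω] {g : ℕ → G} {pt : ℕ → Ω}
    (M : Md g pt H16.J3.P 6156 4 H16.J3.B 50232960) : Stage ⊤ (wds g ch_W) pt 6156 [cl4, cl5, cl6] [cl3.Pt 0, cl2.Pt 0, cl1.Pt 0, cl0.Pt 0] :=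
  (c_S3 M).next
theorem c_S5 {G Ω : Type*} [Group G] [MulAction G Ω] {g : ℕ → G} {pt : ℕ → Ω}
    (M : Md g pt H16.J3.P 6156 4 H16.J3.B 50232960) : Stage ⊤ (wds g ch_W) pt 6156 [cl5, cl6] [cl4.Pt 0, cl3.Pt 0, cl2.Pt 0, cl1.Pt 0, cl0.Pt 0] :=
  (c_S4 M).next
theorem c_S6 {G Ω : Type*} [Group G] [MulAction G Ω] {g : ℕ → G} {pt : ℕ → Ω}
    (M : Md g pt H16.J3.P 6156 4 H16.J3.B 50232960) : Stage ⊤ (wds g ch_W) pt 6156 [cl6] [cl5.Pt 0, cl4.Pt 0, cl3.Pt 0, cl2.Pt 0, cl1.Pt 0, cl0.Pt 0] :=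
  (c_S5 M).next
theorem c_S7 {G Ω : Type*} [Group G] [MulAction G Ω] {g : ℕ → G} {pt : ℕ → Ω}
    (M : Md g pt H16.J3.P 6156 4 H16.J3.B 50232960) : Stage ⊤ (wds g ch_W) pt 6156 [] [cl6.Pt 0, cl5.Pt 0, cl4.Pt 0, cl3.Pt 0, cl2.Pt 0, cl1.Pt 0, cl0.Pt 0] :=
  (c_S6 M).next
theorem cce_act {G Ω : Type*} [Group G] [MulAction G Ω] {g : ℕ → G} {pt : ℕ → Ω}
    (M : Md g pt H16.J3.P 6156 4 H16.J3.B 50232960) : Act (wds g cce_W) pt cce_P 6156 7 :=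
  M.wact cce_lt
theorem ccc6_e : ∀ i < 1, (dent ccc6 cce_P (nat_lit 6156)) i = 0 := allZ_sound0 ccc6_e_0
theorem ccc6_ok : DOK ccc6 cce_P 6156 := ⟨ccc6_h, ccc6_e⟩
theorem cn0_1 : ∀ i < 2, (cn0.ent H16.J3.P ch_P x_P x_P cce_P (nat_lit 4) (nat_lit 1) H16.J3.B cl6 [] (memO ccc6)) i = 0 := allZ_sound0 cn0_1_0
theorem cn0_t {G Ω : Type*} [Group G] [MulAction G Ω] {g : ℕ → G} {pt : ℕ → Ω}
    (M : Md g pt H16.J3.P 6156 4 H16.J3.B 50232960) : TrO (gen (wds g ch_W) cl6.K) (wds g x_W) (wds g x_W) 1 pt 6156 (cl6.Pt 0) (memO ccc6) :=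
  node M (c_S6 M) (ch_act M) (x_act M) (x_act M) cn0 ((cce_act M).mono (by decide)) (fun _ _ => trivial) cn0_0 cn0_1 (List.forall_mem_nil _)
theorem ccc4_e : ∀ i < 1, (dent ccc4 cce_P (nat_lit 6156)) i = 0 := allZ_sound0 ccc4_e_0
theorem ccc4_ok : DOK ccc4 cce_P 6156 := ⟨ccc4_h, ccc4_e⟩
theorem cn1_1 : ∀ i < 2, (cn1.ent H16.J3.P ch_P x_P x_P cce_P (nat_lit 4) (nat_lit 1) H16.J3.B cl4 [cl5, cl6] (memO ccc4)) i = 0 := allZ_sound0 cn1_1_0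
theorem cn1_t {G Ω : Type*} [Group G] [MulAction G Ω] {g : ℕ → G} {pt : ℕ → Ω}
    (M : Md g pt H16.J3.P 6156 4 H16.J3.B 50232960) : TrO (gen (wds g ch_W) cl4.K) (wds g x_W) (wds g x_W) 1 pt 6156 (cl4.Pt 0) (memO ccc4) :=
  node M (c_S4 M) (ch_act M) (x_act M) (x_act M) cn1 ((cce_act M).mono (by decide)) (fun _ _ => trivial) cn1_0 cn1_1 (List.forall_mem_nil _)
theorem ccc3_e : ∀ i < 1, (dent ccc3 cce_P (nat_lit 6156)) i = 0 := allZ_sound0 ccc3_e_0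
theorem ccc3_ok : DOK ccc3 cce_P 6156 := ⟨ccc3_h, ccc3_e⟩
theorem cn2_1 : ∀ i < 2, (cn2.ent H16.J3.P ch_P x_P x_P cce_P (nat_lit 4) (nat_lit 1) H16.J3.B cl3 [cl4, cl5, cl6] (memO ccc3)) i = 0 := allZ_sound0 cn2_1_0
theorem cn2_t {G Ω : Type*} [Group G] [MulAction G Ω] {g : ℕ → G} {pt : ℕ → Ω}
    (M : Md g pt H16.J3.P 6156 4 H16.J3.B 50232960) : TrO (gen (wds g ch_W) cl3.K) (wds g x_W) (wds g x_W) 1 pt 6156 (cl3.Pt 0) (memO ccc3) :=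
  node M (c_S3 M) (ch_act M) (x_act M) (x_act M) cn2 ((cce_act M).mono (by decide)) (fun _ _ => trivial) cn2_0 cn2_1 (List.forall_mem_nil _)
theorem ccc2_e : ∀ i < 1, (dent ccc2 cce_P (nat_lit 6156)) i = 0 := allZ_sound0 ccc2_e_0
theorem ccc2_ok : DOK ccc2 cce_P 6156 := ⟨ccc2_h, ccc2_e⟩
theorem cn3y6039_act {G Ω : Type*} [Group G] [MulAction G Ω] {g : ℕ → G} {pt : ℕ → Ω}
    (M : Md g pt H16.J3.P 6156 4 H16.J3.B 50232960) : Act (wds g cn3y6039_W) pt cn3y6039_P 6156 1 :=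
  M.wact cn3y6039_lt
theorem cr4k_act {G Ω : Type*} [Group G] [MulAction G Ω] {g : ℕ → G} {pt : ℕ → Ω}
    (M : Md g pt H16.J3.P 6156 4 H16.J3.B 50232960) : Act (wds g cr4k_W) pt cr4k_P 6156 3 :=
  M.wact cr4k_lt
theorem cn4_1 : ∀ i < 2, (cn4.ent H16.J3.P ch_P x_P cn3y6039_P cr4k_P (nat_lit 4) (nat_lit 1) H16.J3.B cl3 [cl4, cl5, cl6] (fun _ => nat_lit 1)) i = 0 := allZ_sound0 cn4_1_0
theorem cn4_t {G Ω : Type*} [Group G] [MulAction G Ω] {g : ℕ → G} {pt : ℕ → Ω}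
    (M : Md g pt H16.J3.P 6156 4 H16.J3.B 50232960) : TrO (gen (wds g ch_W) cl3.K) (wds g x_W) (wds g cn3y6039_W) 1 pt 6156 (cl3.Pt 0) (fun _ => nat_lit 1) :=
  node M (c_S3 M) (ch_act M) (x_act M) (cn3y6039_act M) cn4 ((cr4k_act M).mono (by decide)) (fun _ _ => trivial) cn4_0 cn4_1 (List.forall_mem_nil _)
theorem cr4 {G Ω : Type*} [Group G] [MulAction G Ω] {g : ℕ → G} {pt : ℕ → Ω}
    (M : Md g pt H16.J3.P 6156 4 H16.J3.B 50232960) : Ref (gen (wds g ch_W) (topK [cl3, cl4, cl5, cl6])) (wds g x_W) (wds g cn3y6039_W) 1 :=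
  (cn4_t M).ref
theorem cn3_1 : ∀ i < 6, (cn3.ent H16.J3.P ch_P x_P x_P cce_P (nat_lit 4) (nat_lit 1) H16.J3.B cl2 [cl3, cl4, cl5, cl6] (memO ccc2)) i = 0 := allZ_sound0 cn3_1_0
theorem cn3_t {G Ω : Type*} [Group G] [MulAction G Ω] {g : ℕ → G} {pt : ℕ → Ω}
    (M : Md g pt H16.J3.P 6156 4 H16.J3.B 50232960) : TrO (gen (wds g ch_W) cl2.K) (wds g x_W) (wds g x_W) 1 pt 6156 (cl2.Pt 0) (memO ccc2) :=
  node M (c_S2 M) (ch_act M) (x_act M) (x_act M) cn3 ((cce_act M).mono (by decide)) (fun _ _ => trivial) cn3_0 cn3_1 (List.forall_mem_cons.2 ⟨cr4 M, List.forall_mem_nil _⟩)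
theorem ccc1_e : ∀ i < 1, (dent ccc1 cce_P (nat_lit 6156)) i = 0 := allZ_sound0 ccc1_e_0
theorem ccc1_ok : DOK ccc1 cce_P 6156 := ⟨ccc1_h, ccc1_e⟩
theorem cn5y3435_act {G Ω : Type*} [Group G] [MulAction G Ω] {g : ℕ → G} {pt : ℕ → Ω}
    (M : Md g pt H16.J3.P 6156 4 H16.J3.B 50232960) : Act (wds g cn5y3435_W) pt cn5y3435_P 6156 1 :=
  M.wact cn5y3435_lt
theorem cr6k_act {G Ω : Type*} [Group G] [MulAction G Ω] {g : ℕ → G} {pt : ℕ → Ω}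
    (M : Md g pt H16.J3.P 6156 4 H16.J3.B 50232960) : Act (wds g cr6k_W) pt cr6k_P 6156 4 :=
  M.wact cr6k_lt
theorem cn6y6039_act {G Ω : Type*} [Group G] [MulAction G Ω] {g : ℕ → G} {pt : ℕ → Ω}
    (M : Md g pt H16.J3.P 6156 4 H16.J3.B 50232960) : Act (wds g cn6y6039_W) pt cn6y6039_P 6156 1 :=
  M.wact cn6y6039_lt
theorem cr7k_act {G Ω : Type*} [Group G] [MulAction G Ω] {g : ℕ → G} {pt : ℕ → Ω}
    (M : Md g pt H16.J3.P 6156 4 H16.J3.B 50232960) : Act (wds g cr7k_W) pt cr7k_P 6156 3 :=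
  M.wact cr7k_lt
theorem cn7y3071_act {G Ω : Type*} [Group G] [MulAction G Ω] {g : ℕ → G} {pt : ℕ → Ω}
    (M : Md g pt H16.J3.P 6156 4 H16.J3.B 50232960) : Act (wds g cn7y3071_W) pt cn7y3071_P 6156 1 :=
  M.wact cn7y3071_lt
theorem cr8k_act {G Ω : Type*} [Group G] [MulAction G Ω] {g : ℕ → G} {pt : ℕ → Ω}
    (M : Md g pt H16.J3.P 6156 4 H16.J3.B 50232960) : Act (wds g cr8k_W) pt cr8k_P 6156 2 :=
  M.wact cr8k_lt
theorem cn8y80_act {G Ω : Type*} [Group G] [MulAction G Ω] {g : ℕ → G} {pt : ℕ → Ω}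
    (M : Md g pt H16.J3.P 6156 4 H16.J3.B 50232960) : Act (wds g cn8y80_W) pt cn8y80_P 6156 1 :=
  M.wact cn8y80_lt
theorem cr9k_act {G Ω : Type*} [Group G] [MulAction G Ω] {g : ℕ → G} {pt : ℕ → Ω}
    (M : Md g pt H16.J3.P 6156 4 H16.J3.B 50232960) : Act (wds g cr9k_W) pt cr9k_P 6156 2 :=
  M.wact cr9k_lt
theorem cn9_1 : ∀ i < 2, (cn9.ent H16.J3.P ch_P x_P cn8y80_P cr9k_P (nat_lit 4) (nat_lit 1) H16.J3.B cl6 [] (fun _ => nat_lit 1)) i = 0 := allZ_sound0 cn9_1_0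
theorem cn9_t {G Ω : Type*} [Group G] [MulAction G Ω] {g : ℕ → G} {pt : ℕ → Ω}
    (M : Md g pt H16.J3.P 6156 4 H16.J3.B 50232960) : TrO (gen (wds g ch_W) cl6.K) (wds g x_W) (wds g cn8y80_W) 1 pt 6156 (cl6.Pt 0) (fun _ => nat_lit 1) :=
  node M (c_S6 M) (ch_act M) (x_act M) (cn8y80_act M) cn9 ((cr9k_act M).mono (by decide)) (fun _ _ => trivial) cn9_0 cn9_1 (List.forall_mem_nil _)
theorem cr9 {G Ω : Type*} [Group G] [MulAction G Ω] {g : ℕ → G} {pt : ℕ → Ω}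
    (M : Md g pt H16.J3.P 6156 4 H16.J3.B 50232960) : Ref (gen (wds g ch_W) (topK [cl6])) (wds g x_W) (wds g cn8y80_W) 1 :=
  (cn9_t M).ref
theorem cn8_1 : ∀ i < 2, (cn8.ent H16.J3.P ch_P x_P cn7y3071_P cr8k_P (nat_lit 4) (nat_lit 1) H16.J3.B cl4 [cl5, cl6] (fun _ => nat_lit 1)) i = 0 := allZ_sound0 cn8_1_0
theorem cn8_t {G Ω : Type*} [Group G] [MulAction G Ω] {g : ℕ → G} {pt : ℕ → Ω}
    (M : Md g pt H16.J3.P 6156 4 H16.J3.B 50232960) : TrO (gen (wds g ch_W) cl4.K) (wds g x_W) (wds g cn7y3071_W) 1 pt 6156 (cl4.Pt 0) (fun _ => nat_lit 1) :=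
  node M (c_S4 M) (ch_act M) (x_act M) (cn7y3071_act M) cn8 ((cr8k_act M).mono (by decide)) (fun _ _ => trivial) cn8_0 cn8_1 (List.forall_mem_cons.2 ⟨cr9 M, List.forall_mem_nil _⟩)
theorem cr8 {G Ω : Type*} [Group G] [MulAction G Ω] {g : ℕ → G} {pt : ℕ → Ω}
    (M : Md g pt H16.J3.P 6156 4 H16.J3.B 50232960) : Ref (gen (wds g ch_W) (topK [cl4, cl5, cl6])) (wds g x_W) (wds g cn7y3071_W) 1 :=
  (cn8_t M).ref
theorem cn7_1 : ∀ i < 2, (cn7.ent H16.J3.P ch_P x_P cn6y6039_P cr7k_P (nat_lit 4) (nat_lit 1) H16.J3.B cl3 [cl4, cl5, cl6] (fun _ => nat_lit 1)) i = 0 := allZ_sound0 cn7_1_0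
theorem cn7_t {G Ω : Type*} [Group G] [MulAction G Ω] {g : ℕ → G} {pt : ℕ → Ω}
    (M : Md g pt H16.J3.P 6156 4 H16.J3.B 50232960) : TrO (gen (wds g ch_W) cl3.K) (wds g x_W) (wds g cn6y6039_W) 1 pt 6156 (cl3.Pt 0) (fun _ => nat_lit 1) :=
  node M (c_S3 M) (ch_act M) (x_act M) (cn6y6039_act M) cn7 ((cr7k_act M).mono (by decide)) (fun _ _ => trivial) cn7_0 cn7_1 (List.forall_mem_cons.2 ⟨cr8 M, List.forall_mem_nil _⟩)
theorem cr7 {G Ω : Type*} [Group G] [MulAction G Ω] {g : ℕ → G} {pt : ℕ → Ω}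
    (M : Md g pt H16.J3.P 6156 4 H16.J3.B 50232960) : Ref (gen (wds g ch_W) (topK [cl3, cl4, cl5, cl6])) (wds g x_W) (wds g cn6y6039_W) 1 :=
  (cn7_t M).ref
theorem cn6y4547_act {G Ω : Type*} [Group G] [MulAction G Ω] {g : ℕ → G} {pt : ℕ → Ω}
    (M : Md g pt H16.J3.P 6156 4 H16.J3.B 50232960) : Act (wds g cn6y4547_W) pt cn6y4547_P 6156 1 :=
  M.wact cn6y4547_lt
theorem cr10k_act {G Ω : Type*} [Group G] [MulAction G Ω] {g : ℕ → G} {pt : ℕ → Ω}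
    (M : Md g pt H16.J3.P 6156 4 H16.J3.B 50232960) : Act (wds g cr10k_W) pt cr10k_P 6156 3 :=
  M.wact cr10k_lt
theorem cn10_1 : ∀ i < 2, (cn10.ent H16.J3.P ch_P x_P cn6y4547_P cr10k_P (nat_lit 4) (nat_lit 1) H16.J3.B cl3 [cl4, cl5, cl6] (fun _ => nat_lit 1)) i = 0 := allZ_sound0 cn10_1_0
theorem cn10_t {G Ω : Type*} [Group G] [MulAction G Ω] {g : ℕ → G} {pt : ℕ → Ω}
    (M : Md g pt H16.J3.P 6156 4 H16.J3.B 50232960) : TrO (gen (wds g ch_W) cl3.K) (wds g x_W) (wds g cn6y4547_W) 1 pt 6156 (cl3.Pt 0) (fun _ => nat_lit 1) :=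
  node M (c_S3 M) (ch_act M) (x_act M) (cn6y4547_act M) cn10 ((cr10k_act M).mono (by decide)) (fun _ _ => trivial) cn10_0 cn10_1 (List.forall_mem_nil _)
theorem cr10 {G Ω : Type*} [Group G] [MulAction G Ω] {g : ℕ → G} {pt : ℕ → Ω}
    (M : Md g pt H16.J3.P 6156 4 H16.J3.B 50232960) : Ref (gen (wds g ch_W) (topK [cl3, cl4, cl5, cl6])) (wds g x_W) (wds g cn6y4547_W) 1 :=
  (cn10_t M).ref
theorem cn6_1 : ∀ i < 6, (cn6.ent H16.J3.P ch_P x_P cn5y3435_P cr6k_P (nat_lit 4) (nat_lit 1) H16.J3.B cl2 [cl3, cl4, cl5, cl6] (fun _ => nat_lit 1)) i = 0 := allZ_sound0 cn6_1_0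
theorem cn6_t {G Ω : Type*} [Group G] [MulAction G Ω] {g : ℕ → G} {pt : ℕ → Ω}
    (M : Md g pt H16.J3.P 6156 4 H16.J3.B 50232960) : TrO (gen (wds g ch_W) cl2.K) (wds g x_W) (wds g cn5y3435_W) 1 pt 6156 (cl2.Pt 0) (fun _ => nat_lit 1) :=
  node M (c_S2 M) (ch_act M) (x_act M) (cn5y3435_act M) cn6 ((cr6k_act M).mono (by decide)) (fun _ _ => trivial) cn6_0 cn6_1 (List.forall_mem_cons.2 ⟨cr7 M, List.forall_mem_cons.2 ⟨cr10 M, List.forall_mem_nil _⟩⟩)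
theorem cr6 {G Ω : Type*} [Group G] [MulAction G Ω] {g : ℕ → G} {pt : ℕ → Ω}
    (M : Md g pt H16.J3.P 6156 4 H16.J3.B 50232960) : Ref (gen (wds g ch_W) (topK [cl2, cl3, cl4, cl5, cl6])) (wds g x_W) (wds g cn5y3435_W) 1 :=
  (cn6_t M).ref
theorem cn5y3436_act {G Ω : Type*} [Group G] [MulAction G Ω] {g : ℕ → G} {pt : ℕ → Ω}
    (M : Md g pt H16.J3.P 6156 4 H16.J3.B 50232960) : Act (wds g cn5y3436_W) pt cn5y3436_P 6156 1 :=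
  M.wact cn5y3436_lt
theorem cr11k_act {G Ω : Type*} [Group G] [MulAction G Ω] {g : ℕ → G} {pt : ℕ → Ω}
    (M : Md g pt H16.J3.P 6156 4 H16.J3.B 50232960) : Act (wds g cr11k_W) pt cr11k_P 6156 3 :=
  M.wact cr11k_lt
theorem cn11_1 : ∀ i < 6, (cn11.ent H16.J3.P ch_P x_P cn5y3436_P cr11k_P (nat_lit 4) (nat_lit 1) H16.J3.B cl2 [cl3, cl4, cl5, cl6] (fun _ => nat_lit 1)) i = 0 := allZ_sound0 cn11_1_0
theorem cn11_t {G Ω : Type*} [Group G] [MulAction G Ω] {g : ℕ → G} {pt : ℕ → Ω}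
    (M : Md g pt H16.J3.P 6156 4 H16.J3.B 50232960) : TrO (gen (wds g ch_W) cl2.K) (wds g x_W) (wds g cn5y3436_W) 1 pt 6156 (cl2.Pt 0) (fun _ => nat_lit 1) :=
  node M (c_S2 M) (ch_act M) (x_act M) (cn5y3436_act M) cn11 ((cr11k_act M).mono (by decide)) (fun _ _ => trivial) cn11_0 cn11_1 (List.forall_mem_nil _)
theorem cr11 {G Ω : Type*} [Group G] [MulAction G Ω] {g : ℕ → G} {pt : ℕ → Ω}
    (M : Md g pt H16.J3.P 6156 4 H16.J3.B 50232960) : Ref (gen (wds g ch_W) (topK [cl2, cl3, cl4, cl5, cl6])) (wds g x_W) (wds g cn5y3436_W) 1 :=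
  (cn11_t M).ref
theorem cn5_1 : ∀ i < 85, (cn5.ent H16.J3.P ch_P x_P x_P cce_P (nat_lit 4) (nat_lit 1) H16.J3.B cl1 [cl2, cl3, cl4, cl5, cl6] (memO ccc1)) i = 0 := allZ_sound0 cn5_1_0
theorem cn5_t {G Ω : Type*} [Group G] [MulAction G Ω] {g : ℕ → G} {pt : ℕ → Ω}
    (M : Md g pt H16.J3.P 6156 4 H16.J3.B 50232960) : TrO (gen (wds g ch_W) cl1.K) (wds g x_W) (wds g x_W) 1 pt 6156 (cl1.Pt 0) (memO ccc1) :=
  node M (c_S1 M) (ch_act M) (x_act M) (x_act M) cn5 ((cce_act M).mono (by decide)) (fun _ _ => trivial) cn5_0 cn5_1 (List.forall_mem_cons.2 ⟨cr6 M, List.forall_mem_cons.2 ⟨cr11 M, List.forall_mem_nil _⟩⟩)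
theorem ccc0_e : ∀ i < 59, (dent ccc0 cce_P (nat_lit 6156)) i = 0 := allZ_sound0 ccc0_e_0
theorem ccc0_ok : DOK ccc0 cce_P 6156 := ⟨ccc0_h, ccc0_e⟩
theorem cn12y3663_act {G Ω : Type*} [Group G] [MulAction G Ω] {g : ℕ → G} {pt : ℕ → Ω}
    (M : Md g pt H16.J3.P 6156 4 H16.J3.B 50232960) : Act (wds g cn12y3663_W) pt cn12y3663_P 6156 1 :=
  M.wact cn12y3663_lt
theorem cr13k_act {G Ω : Type*} [Group G] [MulAction G Ω] {g : ℕ → G} {pt : ℕ → Ω}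
    (M : Md g pt H16.J3.P 6156 4 H16.J3.B 50232960) : Act (wds g cr13k_W) pt cr13k_P 6156 3 :=
  M.wact cr13k_lt
theorem cn13y837_act {G Ω : Type*} [Group G] [MulAction G Ω] {g : ℕ → G} {pt : ℕ → Ω}
    (M : Md g pt H16.J3.P 6156 4 H16.J3.B 50232960) : Act (wds g cn13y837_W) pt cn13y837_P 6156 1 :=
  M.wact cn13y837_lt
theorem cr14k_act {G Ω : Type*} [Group G] [MulAction G Ω] {g : ℕ → G} {pt : ℕ → Ω}
    (M : Md g pt H16.J3.P 6156 4 H16.J3.B 50232960) : Act (wds g cr14k_W) pt cr14k_P 6156 2 :=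
  M.wact cr14k_lt
theorem cn14_1 : ∀ i < 6, (cn14.ent H16.J3.P ch_P x_P cn13y837_P cr14k_P (nat_lit 4) (nat_lit 1) H16.J3.B cl2 [cl3, cl4, cl5, cl6] (fun _ => nat_lit 1)) i = 0 := allZ_sound0 cn14_1_0
theorem cn14_t {G Ω : Type*} [Group G] [MulAction G Ω] {g : ℕ → G} {pt : ℕ → Ω}
    (M : Md g pt H16.J3.P 6156 4 H16.J3.B 50232960) : TrO (gen (wds g ch_W) cl2.K) (wds g x_W) (wds g cn13y837_W) 1 pt 6156 (cl2.Pt 0) (fun _ => nat_lit 1) :=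
  node M (c_S2 M) (ch_act M) (x_act M) (cn13y837_act M) cn14 ((cr14k_act M).mono (by decide)) (fun _ _ => trivial) cn14_0 cn14_1 (List.forall_mem_nil _)
theorem cr14 {G Ω : Type*} [Group G] [MulAction G Ω] {g : ℕ → G} {pt : ℕ → Ω}
    (M : Md g pt H16.J3.P 6156 4 H16.J3.B 50232960) : Ref (gen (wds g ch_W) (topK [cl2, cl3, cl4, cl5, cl6])) (wds g x_W) (wds g cn13y837_W) 1 :=
  (cn14_t M).ref
theorem cn13_1 : ∀ i < 85, (cn13.ent H16.J3.P ch_P x_P cn12y3663_P cr13k_P (nat_lit 4) (nat_lit 1) H16.J3.B cl1 [cl2, cl3, cl4, cl5, cl6] (fun _ => nat_lit 1)) i = 0 := allZ_sound0 cn13_1_0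
theorem cn13_t {G Ω : Type*} [Group G] [MulAction G Ω] {g : ℕ → G} {pt : ℕ → Ω}
    (M : Md g pt H16.J3.P 6156 4 H16.J3.B 50232960) : TrO (gen (wds g ch_W) cl1.K) (wds g x_W) (wds g cn12y3663_W) 1 pt 6156 (cl1.Pt 0) (fun _ => nat_lit 1) :=
  node M (c_S1 M) (ch_act M) (x_act M) (cn12y3663_act M) cn13 ((cr13k_act M).mono (by decide)) (fun _ _ => trivial) cn13_0 cn13_1 (List.forall_mem_cons.2 ⟨cr14 M, List.forall_mem_nil _⟩)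
theorem cr13 {G Ω : Type*} [Group G] [MulAction G Ω] {g : ℕ → G} {pt : ℕ → Ω}
    (M : Md g pt H16.J3.P 6156 4 H16.J3.B 50232960) : Ref (gen (wds g ch_W) (topK [cl1, cl2, cl3, cl4, cl5, cl6])) (wds g x_W) (wds g cn12y3663_W) 1 :=
  (cn13_t M).ref
theorem cn12_1 : ∀ i < 6156, (cn12.ent H16.J3.P ch_P x_P x_P cce_P (nat_lit 4) (nat_lit 1) H16.J3.B cl0 [cl1, cl2, cl3, cl4, cl5, cl6] (memO ccc0)) i = 0 := range_glue (allZ_sound0 cn12_1_0) cn12_1_1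
theorem cn12_t {G Ω : Type*} [Group G] [MulAction G Ω] {g : ℕ → G} {pt : ℕ → Ω}
    (M : Md g pt H16.J3.P 6156 4 H16.J3.B 50232960) : TrO (gen (wds g ch_W) cl0.K) (wds g x_W) (wds g x_W) 1 pt 6156 (cl0.Pt 0) (memO ccc0) :=
  node M (c_S0 M) (ch_act M) (x_act M) (x_act M) cn12 ((cce_act M).mono (by decide)) (fun _ _ => trivial) cn12_0 cn12_1 (List.forall_mem_cons.2 ⟨cr13 M, List.forall_mem_nil _⟩)
theorem cc {G Ω : Type*} [Group G] [MulAction G Ω] {g : ℕ → G} {pt : ℕ → Ω}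
    (M : Md g pt H16.J3.P 6156 4 H16.J3.B 50232960) : Cen ⊤ (wds g x_W) 1 (wds g cce_W) pt 6156 [ccc0, ccc1, ccc2, ccc3, ccc4, ccc6] :=
  (c_S0 M).top ▸ Cen.lev M (c_S0 M) (Cen.lev M (c_S1 M) (Cen.lev M (c_S2 M) (Cen.lev M (c_S3 M) (Cen.lev M (c_S4 M) (Cen.triv (c_S5 M) (Cen.lev M (c_S6 M) (Cen.bot) (cn0_t M) (x_act M) (cce_act M) (fun _ _ => trivial) ccc6_ok cc_f6) (forced (c_S5 M) (ch_act M) (x_act M) _ _ cc_f5)) (cn1_t M) (x_act M) (cce_act M) (fun _ _ => trivial) ccc4_ok cc_f4) (cn2_t M) (x_act M) (cce_act M) (fun _ _ => trivial) ccc3_ok cc_f3) (cn3_t M) (x_act M) (cce_act M) (fun _ _ => trivial) ccc2_ok cc_f2) (cn5_t M) (x_act M) (cce_act M) (fun _ _ => trivial) ccc1_ok cc_f1) (cn12_t M) (x_act M) (cce_act M) (fun _ _ => trivial) ccc0_ok cc_f0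
theorem cc_card {G Ω : Type*} [Group G] [MulAction G Ω] {g : ℕ → G} {pt : ℕ → Ω}
    (M : Md g pt H16.J3.P 6156 4 H16.J3.B 50232960) : Nat.card (Subgroup.centralizer {(wds g x_W) 0}) = 1920 :=
  (cc M).card_cent1 M.inj cc_c.1
theorem cc_eq {G Ω : Type*} [Group G] [MulAction G Ω] {g : ℕ → G} {pt : ℕ → Ω}
    (M : Md g pt H16.J3.P 6156 4 H16.J3.B 50232960) : Subgroup.centralizer (gen (wds g x_W) 1) = gen (wds g cce_W) 7 ∧ Nat.card (gen (wds g cce_W) 7) = 1920 :=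
  cc_c.1 ▸ cc_c.2 ▸ ⟨(cc M).cent, (cc M).card M.inj⟩
theorem ag {G Ω : Type*} [Group G] [MulAction G Ω] {g : ℕ → G} {pt : ℕ → Ω}
    (M : Md g pt H16.J3.P 6156 4 H16.J3.B 50232960) : gen (wds g cce_W) 7 ≤ gen (wds g a_W) 5 :=
  M.gen_le (a_act M) (cce_act M) ag_k
theorem az {G Ω : Type*} [Group G] [MulAction G Ω] {g : ℕ → G} {pt : ℕ → Ω}
    (M : Md g pt H16.J3.P 6156 4 H16.J3.B 50232960) : (wds g x_W) 0 = evA (wds g a_W) [2, 0, 2, 4, 1, 3, 4, 3, 1, 4] ∧ (wds g x_W) 0 ∈ gen (wds g a_W) 5 :=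
  M.eqw (a_act M) (x_act M) (by decide) az_k
theorem x2 {G Ω : Type*} [Group G] [MulAction G Ω] {g : ℕ → G} {pt : ℕ → Ω}
    (M : Md g pt H16.J3.P 6156 4 H16.J3.B 50232960) : (wds g x_W) 0 ^ 2 = 1 :=
  M.pw (x_act M) x2_k
theorem x1 {G Ω : Type*} [Group G] [MulAction G Ω] {g : ℕ → G} {pt : ℕ → Ω}
    (M : Md g pt H16.J3.P 6156 4 H16.J3.B 50232960) : (wds g x_W) 0 ^ 1 ≠ 1 :=
  M.npw (x_act M) _ x1_k
theorem st_act {G Ω : Type*} [Group G] [MulAction G Ω] {g : ℕ → G} {pt : ℕ → Ω}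
    (M : Md g pt H16.J3.P 6156 4 H16.J3.B 50232960) : Act (wds g st_W) pt st_P 6156 7 :=
  M.wact st_lt
theorem s_r : ∀ k < 7, ∀ i < 256, (resEnt st_P sP sE sI (nat_lit 6156) (nat_lit 256)) k i = 0 := allZ2_sound s_r_a
theorem s_sm {G Ω : Type*} [Group G] [MulAction G Ω] {g : ℕ → G} {pt : ℕ → Ω}
    (M : Md g pt H16.J3.P 6156 4 H16.J3.B 50232960) : Sm (wds g st_W) (fun i => pt (sE i)) sP 256 7 sB ∧ ∀ i < 256, sE i < 6156 :=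
  M.res (st_act M) (by decide) s_r s_b
theorem sl0_e : ∀ i < 127, (dent sl0 (wdsP sP se) (nat_lit 256)) i = 0 := allZ_sound0 sl0_e_0
theorem sl0_ok : DOK sl0 (wdsP sP se) 256 := ⟨sl0_h, sl0_e⟩
theorem s_low {G Ω : Type*} [Group G] [MulAction G Ω] {g : ℕ → G} {pt : ℕ → Ω}
    (M : Md g pt H16.J3.P 6156 4 H16.J3.B 50232960) : SLow (gi (wds (wds g st_W) se)) (fun i => pt (sE i)) 256 [sl0] :=
  (SLow.nil).cons sl0_ok ((s_sm M).1.act.wds s_e 4) s_f0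
theorem s_pc {G Ω : Type*} [Group G] [MulAction G Ω] {g : ℕ → G} {pt : ℕ → Ω}
    (M : Md g pt H16.J3.P 6156 4 H16.J3.B 50232960) : PC (wds g st_W) 7 2 :=
  have := M.fin
  ((s_sm M).1.pc0 (by decide) s_p).pc (s_low M) (s_sm M).1.inj
    (fun k => evA_mem_gen _ (nth_lt s_e k)) M.card ⟨by decide, s_c⟩
theorem cvr_act {G Ω : Type*} [Group G] [MulAction G Ω] {g : ℕ → G} {pt : ℕ → Ω}
    (M : Md g pt H16.J3.P 6156 4 H16.J3.B 50232960) : Act (wds g cvr_W) pt cvr_P 6156 1 :=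
  M.wact cvr_lt
theorem cv_0 {G Ω : Type*} [Group G] [MulAction G Ω] {g : ℕ → G} {pt : ℕ → Ω}
    (M : Md g pt H16.J3.P 6156 4 H16.J3.B 50232960) : Cov (wds g st_W) (wds g cvr_W) 2 1 7 (evA (wds g st_W) []) :=
  have := M.fin
  cvT0.cov M (s_sm M).1 (s_sm M).2 (cvr_act M) (s_pc M) _ _ cv_c0
theorem cv {G Ω : Type*} [Group G] [MulAction G Ω] {g : ℕ → G} {pt : ℕ → Ω}
    (M : Md g pt H16.J3.P 6156 4 H16.J3.B 50232960) {y : G} {e : ℕ} (hy : y ^ 2 ^ e = 1) (hq : y ^ 2 = 1) : Good (wds g cvr_W) 1 y :=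
  have := M.fin
  Cov.all (s_pc M) (cv_0 M) hy hq

end H16.J3C
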