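import Cfsg.Agent.H16.P.McG.C0
import Cfsg.Agent.H16.P.McG.C1

/-! Generated by tools/h0/tr.py. -/

set_option maxRecDepth 100000
set_option maxHeartbeats 0
set_option Elab.async false
set_option synthInstance.maxSize 2000

namespace H16.McG
open H16 H0.TR
open scoped commutatorElement

theorem inv_0 : ∀ i < 275, (invEnt (nat_lit 0)) i = 0 := allZ_sound0 inv_0_0
theorem inv_1 : ∀ i < 275, (invEnt (nat_lit 1)) i = 0 := allZ_sound0 inv_1_0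
theorem inv_2 : ∀ i < 275, (invEnt (nat_lit 2)) i = 0 := allZ_sound0 inv_2_0
theorem inv_3 : ∀ i < 275, (invEnt (nat_lit 3)) i = 0 := allZ_sound0 inv_3_0
theorem inv_4 : ∀ i < 275, (invEnt (nat_lit 4)) i = 0 := allZ_sound0 inv_4_0
theorem inv_5 : ∀ i < 275, (invEnt (nat_lit 5)) i = 0 := allZ_sound0 inv_5_0
theorem inv : ∀ k < 6, ∀ i < 275, (invEnt) k i = 0 :=
  letters_glue (letters_glue (letters_glue (letters_glue (letters_glue (letters_glue (letters_nil) inv_0) inv_1) inv_2) inv_3) inv_4) inv_5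
theorem sym : ∀ i < 275, (symEnt) i = 0 := allZ_sound0 sym_0
theorem pe : ∀ k < 6, ∀ i < 275, (permEnt H15.McL.P (ivOf H15.McL.Rl) (nat_lit 275)) k i = 0 := allZ2_sound pe_a
theorem v_m : ∀ k < 9, ∀ i < 275, (matEnt (wdsP H15.McL.P v_W) v_P) k i = 0 := allZ2_sound v_m_a
theorem v_act {G Ω : Type*} [Group G] [MulAction G Ω] {g : ℕ → G} {pt : ℕ → Ω}
    (M : Md g pt H15.McL.P 275 6 H15.McL.B 898128000) : Act (wds g v_W) pt v_P 275 9 :=
  act_mat (M.wact v_lt) v_m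
theorem vr {G Ω : Type*} [Group G] [MulAction G Ω] {g : ℕ → G} {pt : ℕ → Ω}
    (M : Md g pt H15.McL.P 275 6 H15.McL.B 898128000) : Rels (wds g v_W) H16.U43.Rl :=
  rels_of_base (v_act M) M.ltB (M.base.mono le_top) vr_k
theorem vn {G Ω : Type*} [Group G] [MulAction G Ω] {g : ℕ → G} {pt : ℕ → Ω}
    (M : Md g pt H15.McL.P 275 6 H15.McL.B 898128000) : (wds g v_W) 0 ^ 1 ≠ 1 :=
  M.npw (v_act M) _ vn_k
theorem st_m : ∀ k < 6, ∀ i < 275, (matEnt (wdsP H15.McL.P st_W) st_P) k i = 0 := allZ2_sound st_m_a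
theorem st_act {G Ω : Type*} [Group G] [MulAction G Ω] {g : ℕ → G} {pt : ℕ → Ω}
    (M : Md g pt H15.McL.P 275 6 H15.McL.B 898128000) : Act (wds g st_W) pt st_P 275 6 :=
  act_mat (M.wact st_lt) st_m
theorem s_r : ∀ k < 6, ∀ i < 164, (resEnt st_P sP sE sI (nat_lit 275) (nat_lit 164)) k i = 0 := allZ2_sound s_r_a
theorem s_sm {G Ω : Type*} [Group G] [MulAction G Ω] {g : ℕ → G} {pt : ℕ → Ω}
    (M : Md g pt H15.McL.P 275 6 H15.McL.B 898128000) : Sm (wds g st_W) (fun i => pt (sE i)) sP 164 6 sB ∧ ∀ i < 164, sE i < 275 :=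
  M.res (st_act M) (by decide) s_r s_b
theorem sl0_e : ∀ i < 80, (dent sl0 (wdsP sP se) (nat_lit 164)) i = 0 := allZ_sound0 sl0_e_0
theorem sl0_ok : DOK sl0 (wdsP sP se) 164 := ⟨sl0_h, sl0_e⟩
theorem sl1_e : ∀ i < 8, (dent sl1 (wdsP sP se) (nat_lit 164)) i = 0 := allZ_sound0 sl1_e_0
theorem sl1_ok : DOK sl1 (wdsP sP se) 164 := ⟨sl1_h, sl1_e⟩
theorem s_low {G Ω : Type*} [Group G] [MulAction G Ω] {g : ℕ → G} {pt : ℕ → Ω}
    (M : Md g pt H15.McL.P 275 6 H15.McL.B 898128000) : SLow (gi (wds (wds g st_W) se)) (fun i => pt (sE i)) 164 [sl0, sl1] :=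
  ((SLow.nil).cons sl1_ok ((s_sm M).1.act.wds s_e 4) s_f1).cons sl0_ok ((s_sm M).1.act.wds s_e 4) s_f0
theorem s_pc {G Ω : Type*} [Group G] [MulAction G Ω] {g : ℕ → G} {pt : ℕ → Ω}
    (M : Md g pt H15.McL.P 275 6 H15.McL.B 898128000) : PC (wds g st_W) 6 3 :=
  have := M.fin
  ((s_sm M).1.pc0 (by decide) s_p).pc (s_low M) (s_sm M).1.inj
    (fun k => evA_mem_gen _ (nth_lt s_e k)) M.card ⟨by decide, s_c⟩
theorem l0_e : ∀ i < 274, (dent l0 H15.McL.P (nat_lit 275)) i = 0 := allZ_sound0 l0_e_0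
theorem l0_ok : DOK l0 H15.McL.P 275 := ⟨l0_h, l0_e⟩
theorem lp_e : ∀ i < 111, (dent lp v_P (nat_lit 275)) i = 0 := allZ_sound0 lp_e_0
theorem lp_ok : DOK lp v_P 275 := ⟨lp_h, lp_e⟩
theorem lq_e : ∀ i < 161, (dent lq v_P (nat_lit 275)) i = 0 := allZ_sound0 lq_e_0
theorem lq_ok : DOK lq v_P 275 := ⟨lq_h, lq_e⟩
theorem l81_e : ∀ i < 80, (dent l81 st_P (nat_lit 275)) i = 0 := allZ_sound0 l81_e_0
theorem l81_ok : DOK l81 st_P 275 := ⟨l81_h, l81_e⟩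
theorem l27_e : ∀ i < 26, (dent l27 st_P (nat_lit 275)) i = 0 := allZ_sound0 l27_e_0
theorem l27_ok : DOK l27 st_P 275 := ⟨l27_h, l27_e⟩
theorem k_m : ∀ k < 2, ∀ i < 275, (matEnt (wdsP H15.McL.P k_W) k_P) k i = 0 := allZ2_sound k_m_a
theorem k_act {G Ω : Type*} [Group G] [MulAction G Ω] {g : ℕ → G} {pt : ℕ → Ω}
    (M : Md g pt H15.McL.P 275 6 H15.McL.B 898128000) : Act (wds g k_W) pt k_P 275 2 :=
  act_mat (M.wact k_lt) k_m
theorem l30_e : ∀ i < 29, (dent l30 k_P (nat_lit 275)) i = 0 := allZ_sound0 l30_e_0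
theorem l30_ok : DOK l30 k_P 275 := ⟨l30_h, l30_e⟩
theorem n_m : ∀ k < 2, ∀ i < 275, (matEnt (wdsP H15.McL.P n_W) n_P) k i = 0 := allZ2_sound n_m_a
theorem n_act {G Ω : Type*} [Group G] [MulAction G Ω] {g : ℕ → G} {pt : ℕ → Ω}
    (M : Md g pt H15.McL.P 275 6 H15.McL.B 898128000) : Act (wds g n_W) pt n_P 275 2 :=
  act_mat (M.wact n_lt) n_m
theorem l105_e : ∀ i < 104, (dent l105 n_P (nat_lit 275)) i = 0 := allZ_sound0 l105_e_0
theorem l105_ok : DOK l105 n_P 275 := ⟨l105_h, l105_e⟩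
theorem x_m : ∀ k < 1, ∀ i < 275, (matEnt (wdsP H15.McL.P x_W) x_P) k i = 0 := allZ2_sound x_m_a
theorem x_act {G Ω : Type*} [Group G] [MulAction G Ω] {g : ℕ → G} {pt : ℕ → Ω}
    (M : Md g pt H15.McL.P 275 6 H15.McL.B 898128000) : Act (wds g x_W) pt x_P 275 1 :=
  act_mat (M.wact x_lt) x_m
theorem x7 {G Ω : Type*} [Group G] [MulAction G Ω] {g : ℕ → G} {pt : ℕ → Ω}
    (M : Md g pt H15.McL.P 275 6 H15.McL.B 898128000) : (wds g x_W) 0 ^ 7 = 1 :=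
  M.pw (x_act M) x7_k
theorem hem : ∀ i < 65536, (hemEnt) i = 0 := range_glue (allZ_sound0 hem_0) hem_1
theorem w0_m : ∀ k < 9, ∀ i < 275, (matEnt (wdsP H15.McL.P w0_W) w0_P) k i = 0 := allZ2_sound w0_m_a
theorem w0_act {G Ω : Type*} [Group G] [MulAction G Ω] {g : ℕ → G} {pt : ℕ → Ω}
    (M : Md g pt H15.McL.P 275 6 H15.McL.B 898128000) : Act (wds g w0_W) pt w0_P 275 9 :=
  act_mat (M.wact w0_lt) w0_m
theorem w0r {G Ω : Type*} [Group G] [MulAction G Ω] {g : ℕ → G} {pt : ℕ → Ω}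
    (M : Md g pt H15.McL.P 275 6 H15.McL.B 898128000) : Rels (wds g w0_W) H16.U43.Rl :=
  rels_of_base (w0_act M) M.ltB (M.base.mono le_top) w0r_k
theorem w0n {G Ω : Type*} [Group G] [MulAction G Ω] {g : ℕ → G} {pt : ℕ → Ω}
    (M : Md g pt H15.McL.P 275 6 H15.McL.B 898128000) : (wds g w0_W) 0 ^ 1 ≠ 1 :=
  M.npw (w0_act M) _ w0n_k
theorem w1_m : ∀ k < 9, ∀ i < 275, (matEnt (wdsP H15.McL.P w1_W) w1_P) k i = 0 := allZ2_sound w1_m_a
theorem w1_act {G Ω : Type*} [Group G] [MulAction G Ω] {g : ℕ → G} {pt : ℕ → Ω}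
    (M : Md g pt H15.McL.P 275 6 H15.McL.B 898128000) : Act (wds g w1_W) pt w1_P 275 9 :=
  act_mat (M.wact w1_lt) w1_m
theorem w1r {G Ω : Type*} [Group G] [MulAction G Ω] {g : ℕ → G} {pt : ℕ → Ω}
    (M : Md g pt H15.McL.P 275 6 H15.McL.B 898128000) : Rels (wds g w1_W) H16.U43.Rl :=
  rels_of_base (w1_act M) M.ltB (M.base.mono le_top) w1r_k
theorem w1n {G Ω : Type*} [Group G] [MulAction G Ω] {g : ℕ → G} {pt : ℕ → Ω}
    (M : Md g pt H15.McL.P 275 6 H15.McL.B 898128000) : (wds g w1_W) 0 ^ 1 ≠ 1 :=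
  M.npw (w1_act M) _ w1n_k
theorem w2_m : ∀ k < 9, ∀ i < 275, (matEnt (wdsP H15.McL.P w2_W) w2_P) k i = 0 := allZ2_sound w2_m_a
theorem w2_act {G Ω : Type*} [Group G] [MulAction G Ω] {g : ℕ → G} {pt : ℕ → Ω}
    (M : Md g pt H15.McL.P 275 6 H15.McL.B 898128000) : Act (wds g w2_W) pt w2_P 275 9 :=
  act_mat (M.wact w2_lt) w2_m
theorem w2r {G Ω : Type*} [Group G] [MulAction G Ω] {g : ℕ → G} {pt : ℕ → Ω}
    (M : Md g pt H15.McL.P 275 6 H15.McL.B 898128000) : Rels (wds g w2_W) H16.U43.Rl :=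
  rels_of_base (w2_act M) M.ltB (M.base.mono le_top) w2r_k
theorem w2n {G Ω : Type*} [Group G] [MulAction G Ω] {g : ℕ → G} {pt : ℕ → Ω}
    (M : Md g pt H15.McL.P 275 6 H15.McL.B 898128000) : (wds g w2_W) 0 ^ 1 ≠ 1 :=
  M.npw (w2_act M) _ w2n_k
theorem w3_m : ∀ k < 9, ∀ i < 275, (matEnt (wdsP H15.McL.P w3_W) w3_P) k i = 0 := allZ2_sound w3_m_a
theorem w3_act {G Ω : Type*} [Group G] [MulAction G Ω] {g : ℕ → G} {pt : ℕ → Ω}
    (M : Md g pt H15.McL.P 275 6 H15.McL.B 898128000) : Act (wds g w3_W) pt w3_P 275 9 :=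
  act_mat (M.wact w3_lt) w3_m
theorem w3r {G Ω : Type*} [Group G] [MulAction G Ω] {g : ℕ → G} {pt : ℕ → Ω}
    (M : Md g pt H15.McL.P 275 6 H15.McL.B 898128000) : Rels (wds g w3_W) H16.U43.Rl :=
  rels_of_base (w3_act M) M.ltB (M.base.mono le_top) w3r_k
theorem w3n {G Ω : Type*} [Group G] [MulAction G Ω] {g : ℕ → G} {pt : ℕ → Ω}
    (M : Md g pt H15.McL.P 275 6 H15.McL.B 898128000) : (wds g w3_W) 0 ^ 1 ≠ 1 :=
  M.npw (w3_act M) _ w3n_k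
noncomputable def y : ℕ → Equiv.Perm (Fin 275) := permGen 275 H15.McL.P
theorem y_act : Act y (ptF 275) H15.McL.P 275 6 := act_permGen pe
theorem y_rels : Rels y H15.McL.Rl := rels_perm pe H15.McL.ivc H15.McL.ivk (FixUpTo.first rf0)
theorem y_card : Nat.card (gen y 6) = 898128000 := (H15.McL.chain_of y_act y_rels).card' (ptF_inj 275) (by decide +kernel)
theorem y_base : IsBase (gen y 6) (ptF 275) H15.McL.B := H15.McL.base_eq ▸ (H15.McL.chain_of y_act y_rels).isBase (ptF_inj 275)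

end H16.McG
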