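import Cfsg.Agent.H16.P.ONB.C0
import Cfsg.Agent.H16.P.ONB.C1
import Cfsg.Agent.H16.P.ONB.C2
import Cfsg.Agent.H16.P.ONB.C3
import Cfsg.Agent.H16.P.ONB.C4
import Cfsg.Agent.H16.P.ONB.C5

/-! Generated by tools/h16 (computation kit). -/

set_option maxRecDepth 100000
set_option maxHeartbeats 0

namespace H16.PON

theorem tcm4e : ∀ k < 4, ∀ i < 32, (ent2 Tm4 Em4 (selR RLm4 Im4) Dm4 (nat_lit 31) (nat_lit 32) (nat_lit 32) (nat_lit 32) (nat_lit 4) (nat_lit 255) (nat_lit 0)) k i = 0 := allZ2_sound tcm4e_a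
theorem tcm4p : ∀ i < 0, (eps2 Tm4 Em4 Jm4 Wm4 RLm4 (nat_lit 31) (nat_lit 32) (nat_lit 32) (nat_lit 4) (nat_lit 0)) i = 0 := allZ_sound0 tcm4p_0
theorem tcm4 : cm4.OK Rl 8 := ⟨tcm4n, ivc, tcm4r, tcm4e, fun i h => tcm4p i (lt_of_lt_of_eq h tcm4q)⟩
theorem bdm4 : Bound Rl 4 32 := Bound.step2 (Bound.zero Rl) tcm4 stm4
theorem tcm5e : ∀ k < 5, ∀ i < 21, (ent2 Tm5 Em5 (selR RLm5 Im5) Dm5 (nat_lit 31) (nat_lit 21) (nat_lit 21) (nat_lit 21) (nat_lit 5) (nat_lit 127) (nat_lit 0)) k i = 0 := allZ2_sound tcm5e_a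
theorem tcm5p : ∀ i < 0, (eps2 Tm5 Em5 Jm5 Wm5 RLm5 (nat_lit 31) (nat_lit 21) (nat_lit 21) (nat_lit 5) (nat_lit 0)) i = 0 := allZ_sound0 tcm5p_0
theorem tcm5 : cm5.OK Rl 8 := ⟨tcm5n, ivc, tcm5r, tcm5e, fun i h => tcm5p i (lt_of_lt_of_eq h tcm5q)⟩
theorem bdm5 : Bound Rl 5 672 := Bound.step2 (bdm4) tcm5 stm5
theorem tcm6e_0 : ∀ i < 5598, (ent2 Tm6 Em6 (selR RLm6 Im6) Dm6 (nat_lit 8191) (nat_lit 5586) (nat_lit 5586) (nat_lit 5598) (nat_lit 6) (nat_lit 65535) (nat_lit 1) (nat_lit 0)) i = 0 := allZ_sound0 tcm6e_0_0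
theorem tcm6e_1 : ∀ i < 5598, (ent2 Tm6 Em6 (selR RLm6 Im6) Dm6 (nat_lit 8191) (nat_lit 5586) (nat_lit 5586) (nat_lit 5598) (nat_lit 6) (nat_lit 65535) (nat_lit 1) (nat_lit 1)) i = 0 := allZ_sound0 tcm6e_1_0
theorem tcm6e_2 : ∀ i < 5598, (ent2 Tm6 Em6 (selR RLm6 Im6) Dm6 (nat_lit 8191) (nat_lit 5586) (nat_lit 5586) (nat_lit 5598) (nat_lit 6) (nat_lit 65535) (nat_lit 1) (nat_lit 2)) i = 0 := allZ_sound0 tcm6e_2_0
theorem tcm6e_3 : ∀ i < 5598, (ent2 Tm6 Em6 (selR RLm6 Im6) Dm6 (nat_lit 8191) (nat_lit 5586) (nat_lit 5586) (nat_lit 5598) (nat_lit 6) (nat_lit 65535) (nat_lit 1) (nat_lit 3)) i = 0 := allZ_sound0 tcm6e_3_0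
theorem tcm6e_4 : ∀ i < 5598, (ent2 Tm6 Em6 (selR RLm6 Im6) Dm6 (nat_lit 8191) (nat_lit 5586) (nat_lit 5586) (nat_lit 5598) (nat_lit 6) (nat_lit 65535) (nat_lit 1) (nat_lit 4)) i = 0 := allZ_sound0 tcm6e_4_0
theorem tcm6e_5 : ∀ i < 5598, (ent2 Tm6 Em6 (selR RLm6 Im6) Dm6 (nat_lit 8191) (nat_lit 5586) (nat_lit 5586) (nat_lit 5598) (nat_lit 6) (nat_lit 65535) (nat_lit 1) (nat_lit 5)) i = 0 := allZ_sound0 tcm6e_5_0
theorem tcm6e : ∀ k < 6, ∀ i < 5598, (ent2 Tm6 Em6 (selR RLm6 Im6) Dm6 (nat_lit 8191) (nat_lit 5586) (nat_lit 5586) (nat_lit 5598) (nat_lit 6) (nat_lit 65535) (nat_lit 1)) k i = 0 :=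
  letters_glue (letters_glue (letters_glue (letters_glue (letters_glue (letters_glue (letters_nil) tcm6e_0) tcm6e_1) tcm6e_2) tcm6e_3) tcm6e_4) tcm6e_5
theorem tcm6p : ∀ i < 12, (eps2 Tm6 Em6 Jm6 Wm6 RLm6 (nat_lit 8191) (nat_lit 5586) (nat_lit 5598) (nat_lit 6) (nat_lit 1)) i = 0 := allZ_sound0 tcm6p_0
theorem tcm6 : cm6.OK Rl 8 := ⟨tcm6n, ivc, tcm6r, tcm6e, fun i h => tcm6p i (lt_of_lt_of_eq h tcm6q)⟩
theorem bdm6 : Bound Rl 6 3753792 := Bound.step2 (bdm5) tcm6 stm6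
theorem tcm8e_0_g0 : ∀ i < 13248, (ent2 Tm8 Em8 (selR RLm8 Im8) Dm8 (nat_lit 262143) (nat_lit 122760) (nat_lit 122760) (nat_lit 183825) (nat_lit 8) (nat_lit 2097151) (nat_lit 4) (nat_lit 0)) i = 0 := allZ_sound0 tcm8e_0_0
theorem tcm8e_0_g1 : ∀ i < 26496, (ent2 Tm8 Em8 (selR RLm8 Im8) Dm8 (nat_lit 262143) (nat_lit 122760) (nat_lit 122760) (nat_lit 183825) (nat_lit 8) (nat_lit 2097151) (nat_lit 4) (nat_lit 0)) i = 0 := range_glue tcm8e_0_g0 tcm8e_0_1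
theorem tcm8e_0_g2 : ∀ i < 39744, (ent2 Tm8 Em8 (selR RLm8 Im8) Dm8 (nat_lit 262143) (nat_lit 122760) (nat_lit 122760) (nat_lit 183825) (nat_lit 8) (nat_lit 2097151) (nat_lit 4) (nat_lit 0)) i = 0 := range_glue tcm8e_0_g1 tcm8e_0_2
theorem tcm8e_0_g3 : ∀ i < 52992, (ent2 Tm8 Em8 (selR RLm8 Im8) Dm8 (nat_lit 262143) (nat_lit 122760) (nat_lit 122760) (nat_lit 183825) (nat_lit 8) (nat_lit 2097151) (nat_lit 4) (nat_lit 0)) i = 0 := range_glue tcm8e_0_g2 tcm8e_0_3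
theorem tcm8e_0_g4 : ∀ i < 66240, (ent2 Tm8 Em8 (selR RLm8 Im8) Dm8 (nat_lit 262143) (nat_lit 122760) (nat_lit 122760) (nat_lit 183825) (nat_lit 8) (nat_lit 2097151) (nat_lit 4) (nat_lit 0)) i = 0 := range_glue tcm8e_0_g3 tcm8e_0_4
theorem tcm8e_0_g5 : ∀ i < 79488, (ent2 Tm8 Em8 (selR RLm8 Im8) Dm8 (nat_lit 262143) (nat_lit 122760) (nat_lit 122760) (nat_lit 183825) (nat_lit 8) (nat_lit 2097151) (nat_lit 4) (nat_lit 0)) i = 0 := range_glue tcm8e_0_g4 tcm8e_0_5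
theorem tcm8e_0_g6 : ∀ i < 92736, (ent2 Tm8 Em8 (selR RLm8 Im8) Dm8 (nat_lit 262143) (nat_lit 122760) (nat_lit 122760) (nat_lit 183825) (nat_lit 8) (nat_lit 2097151) (nat_lit 4) (nat_lit 0)) i = 0 := range_glue tcm8e_0_g5 tcm8e_0_6
theorem tcm8e_0_g7 : ∀ i < 105984, (ent2 Tm8 Em8 (selR RLm8 Im8) Dm8 (nat_lit 262143) (nat_lit 122760) (nat_lit 122760) (nat_lit 183825) (nat_lit 8) (nat_lit 2097151) (nat_lit 4) (nat_lit 0)) i = 0 := range_glue tcm8e_0_g6 tcm8e_0_7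
theorem tcm8e_0_g8 : ∀ i < 119232, (ent2 Tm8 Em8 (selR RLm8 Im8) Dm8 (nat_lit 262143) (nat_lit 122760) (nat_lit 122760) (nat_lit 183825) (nat_lit 8) (nat_lit 2097151) (nat_lit 4) (nat_lit 0)) i = 0 := range_glue tcm8e_0_g7 tcm8e_0_8
theorem tcm8e_0_g9 : ∀ i < 132480, (ent2 Tm8 Em8 (selR RLm8 Im8) Dm8 (nat_lit 262143) (nat_lit 122760) (nat_lit 122760) (nat_lit 183825) (nat_lit 8) (nat_lit 2097151) (nat_lit 4) (nat_lit 0)) i = 0 := range_glue tcm8e_0_g8 tcm8e_0_9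
theorem tcm8e_0_g10 : ∀ i < 145728, (ent2 Tm8 Em8 (selR RLm8 Im8) Dm8 (nat_lit 262143) (nat_lit 122760) (nat_lit 122760) (nat_lit 183825) (nat_lit 8) (nat_lit 2097151) (nat_lit 4) (nat_lit 0)) i = 0 := range_glue tcm8e_0_g9 tcm8e_0_10
theorem tcm8e_0_g11 : ∀ i < 158976, (ent2 Tm8 Em8 (selR RLm8 Im8) Dm8 (nat_lit 262143) (nat_lit 122760) (nat_lit 122760) (nat_lit 183825) (nat_lit 8) (nat_lit 2097151) (nat_lit 4) (nat_lit 0)) i = 0 := range_glue tcm8e_0_g10 tcm8e_0_11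
theorem tcm8e_0_g12 : ∀ i < 172224, (ent2 Tm8 Em8 (selR RLm8 Im8) Dm8 (nat_lit 262143) (nat_lit 122760) (nat_lit 122760) (nat_lit 183825) (nat_lit 8) (nat_lit 2097151) (nat_lit 4) (nat_lit 0)) i = 0 := range_glue tcm8e_0_g11 tcm8e_0_12
theorem tcm8e_0 : ∀ i < 183825, (ent2 Tm8 Em8 (selR RLm8 Im8) Dm8 (nat_lit 262143) (nat_lit 122760) (nat_lit 122760) (nat_lit 183825) (nat_lit 8) (nat_lit 2097151) (nat_lit 4) (nat_lit 0)) i = 0 := range_glue tcm8e_0_g12 tcm8e_0_13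
theorem tcm8e_1_g0 : ∀ i < 13248, (ent2 Tm8 Em8 (selR RLm8 Im8) Dm8 (nat_lit 262143) (nat_lit 122760) (nat_lit 122760) (nat_lit 183825) (nat_lit 8) (nat_lit 2097151) (nat_lit 4) (nat_lit 1)) i = 0 := allZ_sound0 tcm8e_1_0
theorem tcm8e_1_g1 : ∀ i < 26496, (ent2 Tm8 Em8 (selR RLm8 Im8) Dm8 (nat_lit 262143) (nat_lit 122760) (nat_lit 122760) (nat_lit 183825) (nat_lit 8) (nat_lit 2097151) (nat_lit 4) (nat_lit 1)) i = 0 := range_glue tcm8e_1_g0 tcm8e_1_1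
theorem tcm8e_1_g2 : ∀ i < 39744, (ent2 Tm8 Em8 (selR RLm8 Im8) Dm8 (nat_lit 262143) (nat_lit 122760) (nat_lit 122760) (nat_lit 183825) (nat_lit 8) (nat_lit 2097151) (nat_lit 4) (nat_lit 1)) i = 0 := range_glue tcm8e_1_g1 tcm8e_1_2
theorem tcm8e_1_g3 : ∀ i < 52992, (ent2 Tm8 Em8 (selR RLm8 Im8) Dm8 (nat_lit 262143) (nat_lit 122760) (nat_lit 122760) (nat_lit 183825) (nat_lit 8) (nat_lit 2097151) (nat_lit 4) (nat_lit 1)) i = 0 := range_glue tcm8e_1_g2 tcm8e_1_3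
theorem tcm8e_1_g4 : ∀ i < 66240, (ent2 Tm8 Em8 (selR RLm8 Im8) Dm8 (nat_lit 262143) (nat_lit 122760) (nat_lit 122760) (nat_lit 183825) (nat_lit 8) (nat_lit 2097151) (nat_lit 4) (nat_lit 1)) i = 0 := range_glue tcm8e_1_g3 tcm8e_1_4
theorem tcm8e_1_g5 : ∀ i < 79488, (ent2 Tm8 Em8 (selR RLm8 Im8) Dm8 (nat_lit 262143) (nat_lit 122760) (nat_lit 122760) (nat_lit 183825) (nat_lit 8) (nat_lit 2097151) (nat_lit 4) (nat_lit 1)) i = 0 := range_glue tcm8e_1_g4 tcm8e_1_5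
theorem tcm8e_1_g6 : ∀ i < 92736, (ent2 Tm8 Em8 (selR RLm8 Im8) Dm8 (nat_lit 262143) (nat_lit 122760) (nat_lit 122760) (nat_lit 183825) (nat_lit 8) (nat_lit 2097151) (nat_lit 4) (nat_lit 1)) i = 0 := range_glue tcm8e_1_g5 tcm8e_1_6
theorem tcm8e_1_g7 : ∀ i < 105984, (ent2 Tm8 Em8 (selR RLm8 Im8) Dm8 (nat_lit 262143) (nat_lit 122760) (nat_lit 122760) (nat_lit 183825) (nat_lit 8) (nat_lit 2097151) (nat_lit 4) (nat_lit 1)) i = 0 := range_glue tcm8e_1_g6 tcm8e_1_7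
theorem tcm8e_1_g8 : ∀ i < 119232, (ent2 Tm8 Em8 (selR RLm8 Im8) Dm8 (nat_lit 262143) (nat_lit 122760) (nat_lit 122760) (nat_lit 183825) (nat_lit 8) (nat_lit 2097151) (nat_lit 4) (nat_lit 1)) i = 0 := range_glue tcm8e_1_g7 tcm8e_1_8
theorem tcm8e_1_g9 : ∀ i < 132480, (ent2 Tm8 Em8 (selR RLm8 Im8) Dm8 (nat_lit 262143) (nat_lit 122760) (nat_lit 122760) (nat_lit 183825) (nat_lit 8) (nat_lit 2097151) (nat_lit 4) (nat_lit 1)) i = 0 := range_glue tcm8e_1_g8 tcm8e_1_9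
theorem tcm8e_1_g10 : ∀ i < 145728, (ent2 Tm8 Em8 (selR RLm8 Im8) Dm8 (nat_lit 262143) (nat_lit 122760) (nat_lit 122760) (nat_lit 183825) (nat_lit 8) (nat_lit 2097151) (nat_lit 4) (nat_lit 1)) i = 0 := range_glue tcm8e_1_g9 tcm8e_1_10
theorem tcm8e_1_g11 : ∀ i < 158976, (ent2 Tm8 Em8 (selR RLm8 Im8) Dm8 (nat_lit 262143) (nat_lit 122760) (nat_lit 122760) (nat_lit 183825) (nat_lit 8) (nat_lit 2097151) (nat_lit 4) (nat_lit 1)) i = 0 := range_glue tcm8e_1_g10 tcm8e_1_11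
theorem tcm8e_1_g12 : ∀ i < 172224, (ent2 Tm8 Em8 (selR RLm8 Im8) Dm8 (nat_lit 262143) (nat_lit 122760) (nat_lit 122760) (nat_lit 183825) (nat_lit 8) (nat_lit 2097151) (nat_lit 4) (nat_lit 1)) i = 0 := range_glue tcm8e_1_g11 tcm8e_1_12
theorem tcm8e_1 : ∀ i < 183825, (ent2 Tm8 Em8 (selR RLm8 Im8) Dm8 (nat_lit 262143) (nat_lit 122760) (nat_lit 122760) (nat_lit 183825) (nat_lit 8) (nat_lit 2097151) (nat_lit 4) (nat_lit 1)) i = 0 := range_glue tcm8e_1_g12 tcm8e_1_13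
theorem tcm8e_2_g0 : ∀ i < 14144, (ent2 Tm8 Em8 (selR RLm8 Im8) Dm8 (nat_lit 262143) (nat_lit 122760) (nat_lit 122760) (nat_lit 183825) (nat_lit 8) (nat_lit 2097151) (nat_lit 4) (nat_lit 2)) i = 0 := allZ_sound0 tcm8e_2_0
theorem tcm8e_2_g1 : ∀ i < 28288, (ent2 Tm8 Em8 (selR RLm8 Im8) Dm8 (nat_lit 262143) (nat_lit 122760) (nat_lit 122760) (nat_lit 183825) (nat_lit 8) (nat_lit 2097151) (nat_lit 4) (nat_lit 2)) i = 0 := range_glue tcm8e_2_g0 tcm8e_2_1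
theorem tcm8e_2_g2 : ∀ i < 42432, (ent2 Tm8 Em8 (selR RLm8 Im8) Dm8 (nat_lit 262143) (nat_lit 122760) (nat_lit 122760) (nat_lit 183825) (nat_lit 8) (nat_lit 2097151) (nat_lit 4) (nat_lit 2)) i = 0 := range_glue tcm8e_2_g1 tcm8e_2_2
theorem tcm8e_2_g3 : ∀ i < 56576, (ent2 Tm8 Em8 (selR RLm8 Im8) Dm8 (nat_lit 262143) (nat_lit 122760) (nat_lit 122760) (nat_lit 183825) (nat_lit 8) (nat_lit 2097151) (nat_lit 4) (nat_lit 2)) i = 0 := range_glue tcm8e_2_g2 tcm8e_2_3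
theorem tcm8e_2_g4 : ∀ i < 70720, (ent2 Tm8 Em8 (selR RLm8 Im8) Dm8 (nat_lit 262143) (nat_lit 122760) (nat_lit 122760) (nat_lit 183825) (nat_lit 8) (nat_lit 2097151) (nat_lit 4) (nat_lit 2)) i = 0 := range_glue tcm8e_2_g3 tcm8e_2_4
theorem tcm8e_2_g5 : ∀ i < 84864, (ent2 Tm8 Em8 (selR RLm8 Im8) Dm8 (nat_lit 262143) (nat_lit 122760) (nat_lit 122760) (nat_lit 183825) (nat_lit 8) (nat_lit 2097151) (nat_lit 4) (nat_lit 2)) i = 0 := range_glue tcm8e_2_g4 tcm8e_2_5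
theorem tcm8e_2_g6 : ∀ i < 99008, (ent2 Tm8 Em8 (selR RLm8 Im8) Dm8 (nat_lit 262143) (nat_lit 122760) (nat_lit 122760) (nat_lit 183825) (nat_lit 8) (nat_lit 2097151) (nat_lit 4) (nat_lit 2)) i = 0 := range_glue tcm8e_2_g5 tcm8e_2_6
theorem tcm8e_2_g7 : ∀ i < 113152, (ent2 Tm8 Em8 (selR RLm8 Im8) Dm8 (nat_lit 262143) (nat_lit 122760) (nat_lit 122760) (nat_lit 183825) (nat_lit 8) (nat_lit 2097151) (nat_lit 4) (nat_lit 2)) i = 0 := range_glue tcm8e_2_g6 tcm8e_2_7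
theorem tcm8e_2_g8 : ∀ i < 127296, (ent2 Tm8 Em8 (selR RLm8 Im8) Dm8 (nat_lit 262143) (nat_lit 122760) (nat_lit 122760) (nat_lit 183825) (nat_lit 8) (nat_lit 2097151) (nat_lit 4) (nat_lit 2)) i = 0 := range_glue tcm8e_2_g7 tcm8e_2_8
theorem tcm8e_2_g9 : ∀ i < 141440, (ent2 Tm8 Em8 (selR RLm8 Im8) Dm8 (nat_lit 262143) (nat_lit 122760) (nat_lit 122760) (nat_lit 183825) (nat_lit 8) (nat_lit 2097151) (nat_lit 4) (nat_lit 2)) i = 0 := range_glue tcm8e_2_g8 tcm8e_2_9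
theorem tcm8e_2_g10 : ∀ i < 155584, (ent2 Tm8 Em8 (selR RLm8 Im8) Dm8 (nat_lit 262143) (nat_lit 122760) (nat_lit 122760) (nat_lit 183825) (nat_lit 8) (nat_lit 2097151) (nat_lit 4) (nat_lit 2)) i = 0 := range_glue tcm8e_2_g9 tcm8e_2_10
theorem tcm8e_2_g11 : ∀ i < 169728, (ent2 Tm8 Em8 (selR RLm8 Im8) Dm8 (nat_lit 262143) (nat_lit 122760) (nat_lit 122760) (nat_lit 183825) (nat_lit 8) (nat_lit 2097151) (nat_lit 4) (nat_lit 2)) i = 0 := range_glue tcm8e_2_g10 tcm8e_2_11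
theorem tcm8e_2 : ∀ i < 183825, (ent2 Tm8 Em8 (selR RLm8 Im8) Dm8 (nat_lit 262143) (nat_lit 122760) (nat_lit 122760) (nat_lit 183825) (nat_lit 8) (nat_lit 2097151) (nat_lit 4) (nat_lit 2)) i = 0 := range_glue tcm8e_2_g11 tcm8e_2_12
theorem tcm8e_3_g0 : ∀ i < 14208, (ent2 Tm8 Em8 (selR RLm8 Im8) Dm8 (nat_lit 262143) (nat_lit 122760) (nat_lit 122760) (nat_lit 183825) (nat_lit 8) (nat_lit 2097151) (nat_lit 4) (nat_lit 3)) i = 0 := allZ_sound0 tcm8e_3_0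
theorem tcm8e_3_g1 : ∀ i < 28416, (ent2 Tm8 Em8 (selR RLm8 Im8) Dm8 (nat_lit 262143) (nat_lit 122760) (nat_lit 122760) (nat_lit 183825) (nat_lit 8) (nat_lit 2097151) (nat_lit 4) (nat_lit 3)) i = 0 := range_glue tcm8e_3_g0 tcm8e_3_1
theorem tcm8e_3_g2 : ∀ i < 42624, (ent2 Tm8 Em8 (selR RLm8 Im8) Dm8 (nat_lit 262143) (nat_lit 122760) (nat_lit 122760) (nat_lit 183825) (nat_lit 8) (nat_lit 2097151) (nat_lit 4) (nat_lit 3)) i = 0 := range_glue tcm8e_3_g1 tcm8e_3_2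
theorem tcm8e_3_g3 : ∀ i < 56832, (ent2 Tm8 Em8 (selR RLm8 Im8) Dm8 (nat_lit 262143) (nat_lit 122760) (nat_lit 122760) (nat_lit 183825) (nat_lit 8) (nat_lit 2097151) (nat_lit 4) (nat_lit 3)) i = 0 := range_glue tcm8e_3_g2 tcm8e_3_3
theorem tcm8e_3_g4 : ∀ i < 71040, (ent2 Tm8 Em8 (selR RLm8 Im8) Dm8 (nat_lit 262143) (nat_lit 122760) (nat_lit 122760) (nat_lit 183825) (nat_lit 8) (nat_lit 2097151) (nat_lit 4) (nat_lit 3)) i = 0 := range_glue tcm8e_3_g3 tcm8e_3_4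
theorem tcm8e_3_g5 : ∀ i < 85248, (ent2 Tm8 Em8 (selR RLm8 Im8) Dm8 (nat_lit 262143) (nat_lit 122760) (nat_lit 122760) (nat_lit 183825) (nat_lit 8) (nat_lit 2097151) (nat_lit 4) (nat_lit 3)) i = 0 := range_glue tcm8e_3_g4 tcm8e_3_5
theorem tcm8e_3_g6 : ∀ i < 99456, (ent2 Tm8 Em8 (selR RLm8 Im8) Dm8 (nat_lit 262143) (nat_lit 122760) (nat_lit 122760) (nat_lit 183825) (nat_lit 8) (nat_lit 2097151) (nat_lit 4) (nat_lit 3)) i = 0 := range_glue tcm8e_3_g5 tcm8e_3_6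
theorem tcm8e_3_g7 : ∀ i < 113664, (ent2 Tm8 Em8 (selR RLm8 Im8) Dm8 (nat_lit 262143) (nat_lit 122760) (nat_lit 122760) (nat_lit 183825) (nat_lit 8) (nat_lit 2097151) (nat_lit 4) (nat_lit 3)) i = 0 := range_glue tcm8e_3_g6 tcm8e_3_7
theorem tcm8e_3_g8 : ∀ i < 127872, (ent2 Tm8 Em8 (selR RLm8 Im8) Dm8 (nat_lit 262143) (nat_lit 122760) (nat_lit 122760) (nat_lit 183825) (nat_lit 8) (nat_lit 2097151) (nat_lit 4) (nat_lit 3)) i = 0 := range_glue tcm8e_3_g7 tcm8e_3_8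
theorem tcm8e_3_g9 : ∀ i < 142080, (ent2 Tm8 Em8 (selR RLm8 Im8) Dm8 (nat_lit 262143) (nat_lit 122760) (nat_lit 122760) (nat_lit 183825) (nat_lit 8) (nat_lit 2097151) (nat_lit 4) (nat_lit 3)) i = 0 := range_glue tcm8e_3_g8 tcm8e_3_9
theorem tcm8e_3_g10 : ∀ i < 156288, (ent2 Tm8 Em8 (selR RLm8 Im8) Dm8 (nat_lit 262143) (nat_lit 122760) (nat_lit 122760) (nat_lit 183825) (nat_lit 8) (nat_lit 2097151) (nat_lit 4) (nat_lit 3)) i = 0 := range_glue tcm8e_3_g9 tcm8e_3_10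
theorem tcm8e_3_g11 : ∀ i < 170496, (ent2 Tm8 Em8 (selR RLm8 Im8) Dm8 (nat_lit 262143) (nat_lit 122760) (nat_lit 122760) (nat_lit 183825) (nat_lit 8) (nat_lit 2097151) (nat_lit 4) (nat_lit 3)) i = 0 := range_glue tcm8e_3_g10 tcm8e_3_11
theorem tcm8e_3 : ∀ i < 183825, (ent2 Tm8 Em8 (selR RLm8 Im8) Dm8 (nat_lit 262143) (nat_lit 122760) (nat_lit 122760) (nat_lit 183825) (nat_lit 8) (nat_lit 2097151) (nat_lit 4) (nat_lit 3)) i = 0 := range_glue tcm8e_3_g11 tcm8e_3_12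
theorem tcm8e_4_g0 : ∀ i < 14016, (ent2 Tm8 Em8 (selR RLm8 Im8) Dm8 (nat_lit 262143) (nat_lit 122760) (nat_lit 122760) (nat_lit 183825) (nat_lit 8) (nat_lit 2097151) (nat_lit 4) (nat_lit 4)) i = 0 := allZ_sound0 tcm8e_4_0
theorem tcm8e_4_g1 : ∀ i < 28032, (ent2 Tm8 Em8 (selR RLm8 Im8) Dm8 (nat_lit 262143) (nat_lit 122760) (nat_lit 122760) (nat_lit 183825) (nat_lit 8) (nat_lit 2097151) (nat_lit 4) (nat_lit 4)) i = 0 := range_glue tcm8e_4_g0 tcm8e_4_1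
theorem tcm8e_4_g2 : ∀ i < 42048, (ent2 Tm8 Em8 (selR RLm8 Im8) Dm8 (nat_lit 262143) (nat_lit 122760) (nat_lit 122760) (nat_lit 183825) (nat_lit 8) (nat_lit 2097151) (nat_lit 4) (nat_lit 4)) i = 0 := range_glue tcm8e_4_g1 tcm8e_4_2
theorem tcm8e_4_g3 : ∀ i < 56064, (ent2 Tm8 Em8 (selR RLm8 Im8) Dm8 (nat_lit 262143) (nat_lit 122760) (nat_lit 122760) (nat_lit 183825) (nat_lit 8) (nat_lit 2097151) (nat_lit 4) (nat_lit 4)) i = 0 := range_glue tcm8e_4_g2 tcm8e_4_3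
theorem tcm8e_4_g4 : ∀ i < 70080, (ent2 Tm8 Em8 (selR RLm8 Im8) Dm8 (nat_lit 262143) (nat_lit 122760) (nat_lit 122760) (nat_lit 183825) (nat_lit 8) (nat_lit 2097151) (nat_lit 4) (nat_lit 4)) i = 0 := range_glue tcm8e_4_g3 tcm8e_4_4
theorem tcm8e_4_g5 : ∀ i < 84096, (ent2 Tm8 Em8 (selR RLm8 Im8) Dm8 (nat_lit 262143) (nat_lit 122760) (nat_lit 122760) (nat_lit 183825) (nat_lit 8) (nat_lit 2097151) (nat_lit 4) (nat_lit 4)) i = 0 := range_glue tcm8e_4_g4 tcm8e_4_5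
theorem tcm8e_4_g6 : ∀ i < 98112, (ent2 Tm8 Em8 (selR RLm8 Im8) Dm8 (nat_lit 262143) (nat_lit 122760) (nat_lit 122760) (nat_lit 183825) (nat_lit 8) (nat_lit 2097151) (nat_lit 4) (nat_lit 4)) i = 0 := range_glue tcm8e_4_g5 tcm8e_4_6
theorem tcm8e_4_g7 : ∀ i < 112128, (ent2 Tm8 Em8 (selR RLm8 Im8) Dm8 (nat_lit 262143) (nat_lit 122760) (nat_lit 122760) (nat_lit 183825) (nat_lit 8) (nat_lit 2097151) (nat_lit 4) (nat_lit 4)) i = 0 := range_glue tcm8e_4_g6 tcm8e_4_7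
theorem tcm8e_4_g8 : ∀ i < 126144, (ent2 Tm8 Em8 (selR RLm8 Im8) Dm8 (nat_lit 262143) (nat_lit 122760) (nat_lit 122760) (nat_lit 183825) (nat_lit 8) (nat_lit 2097151) (nat_lit 4) (nat_lit 4)) i = 0 := range_glue tcm8e_4_g7 tcm8e_4_8
theorem tcm8e_4_g9 : ∀ i < 140160, (ent2 Tm8 Em8 (selR RLm8 Im8) Dm8 (nat_lit 262143) (nat_lit 122760) (nat_lit 122760) (nat_lit 183825) (nat_lit 8) (nat_lit 2097151) (nat_lit 4) (nat_lit 4)) i = 0 := range_glue tcm8e_4_g8 tcm8e_4_9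
theorem tcm8e_4_g10 : ∀ i < 154176, (ent2 Tm8 Em8 (selR RLm8 Im8) Dm8 (nat_lit 262143) (nat_lit 122760) (nat_lit 122760) (nat_lit 183825) (nat_lit 8) (nat_lit 2097151) (nat_lit 4) (nat_lit 4)) i = 0 := range_glue tcm8e_4_g9 tcm8e_4_10
theorem tcm8e_4_g11 : ∀ i < 168192, (ent2 Tm8 Em8 (selR RLm8 Im8) Dm8 (nat_lit 262143) (nat_lit 122760) (nat_lit 122760) (nat_lit 183825) (nat_lit 8) (nat_lit 2097151) (nat_lit 4) (nat_lit 4)) i = 0 := range_glue tcm8e_4_g10 tcm8e_4_11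
theorem tcm8e_4_g12 : ∀ i < 182208, (ent2 Tm8 Em8 (selR RLm8 Im8) Dm8 (nat_lit 262143) (nat_lit 122760) (nat_lit 122760) (nat_lit 183825) (nat_lit 8) (nat_lit 2097151) (nat_lit 4) (nat_lit 4)) i = 0 := range_glue tcm8e_4_g11 tcm8e_4_12
theorem tcm8e_4 : ∀ i < 183825, (ent2 Tm8 Em8 (selR RLm8 Im8) Dm8 (nat_lit 262143) (nat_lit 122760) (nat_lit 122760) (nat_lit 183825) (nat_lit 8) (nat_lit 2097151) (nat_lit 4) (nat_lit 4)) i = 0 := range_glue tcm8e_4_g12 tcm8e_4_13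
theorem tcm8e_5_g0 : ∀ i < 14016, (ent2 Tm8 Em8 (selR RLm8 Im8) Dm8 (nat_lit 262143) (nat_lit 122760) (nat_lit 122760) (nat_lit 183825) (nat_lit 8) (nat_lit 2097151) (nat_lit 4) (nat_lit 5)) i = 0 := allZ_sound0 tcm8e_5_0
theorem tcm8e_5_g1 : ∀ i < 28032, (ent2 Tm8 Em8 (selR RLm8 Im8) Dm8 (nat_lit 262143) (nat_lit 122760) (nat_lit 122760) (nat_lit 183825) (nat_lit 8) (nat_lit 2097151) (nat_lit 4) (nat_lit 5)) i = 0 := range_glue tcm8e_5_g0 tcm8e_5_1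
theorem tcm8e_5_g2 : ∀ i < 42048, (ent2 Tm8 Em8 (selR RLm8 Im8) Dm8 (nat_lit 262143) (nat_lit 122760) (nat_lit 122760) (nat_lit 183825) (nat_lit 8) (nat_lit 2097151) (nat_lit 4) (nat_lit 5)) i = 0 := range_glue tcm8e_5_g1 tcm8e_5_2
theorem tcm8e_5_g3 : ∀ i < 56064, (ent2 Tm8 Em8 (selR RLm8 Im8) Dm8 (nat_lit 262143) (nat_lit 122760) (nat_lit 122760) (nat_lit 183825) (nat_lit 8) (nat_lit 2097151) (nat_lit 4) (nat_lit 5)) i = 0 := range_glue tcm8e_5_g2 tcm8e_5_3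
theorem tcm8e_5_g4 : ∀ i < 70080, (ent2 Tm8 Em8 (selR RLm8 Im8) Dm8 (nat_lit 262143) (nat_lit 122760) (nat_lit 122760) (nat_lit 183825) (nat_lit 8) (nat_lit 2097151) (nat_lit 4) (nat_lit 5)) i = 0 := range_glue tcm8e_5_g3 tcm8e_5_4
theorem tcm8e_5_g5 : ∀ i < 84096, (ent2 Tm8 Em8 (selR RLm8 Im8) Dm8 (nat_lit 262143) (nat_lit 122760) (nat_lit 122760) (nat_lit 183825) (nat_lit 8) (nat_lit 2097151) (nat_lit 4) (nat_lit 5)) i = 0 := range_glue tcm8e_5_g4 tcm8e_5_5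
theorem tcm8e_5_g6 : ∀ i < 98112, (ent2 Tm8 Em8 (selR RLm8 Im8) Dm8 (nat_lit 262143) (nat_lit 122760) (nat_lit 122760) (nat_lit 183825) (nat_lit 8) (nat_lit 2097151) (nat_lit 4) (nat_lit 5)) i = 0 := range_glue tcm8e_5_g5 tcm8e_5_6
theorem tcm8e_5_g7 : ∀ i < 112128, (ent2 Tm8 Em8 (selR RLm8 Im8) Dm8 (nat_lit 262143) (nat_lit 122760) (nat_lit 122760) (nat_lit 183825) (nat_lit 8) (nat_lit 2097151) (nat_lit 4) (nat_lit 5)) i = 0 := range_glue tcm8e_5_g6 tcm8e_5_7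
theorem tcm8e_5_g8 : ∀ i < 126144, (ent2 Tm8 Em8 (selR RLm8 Im8) Dm8 (nat_lit 262143) (nat_lit 122760) (nat_lit 122760) (nat_lit 183825) (nat_lit 8) (nat_lit 2097151) (nat_lit 4) (nat_lit 5)) i = 0 := range_glue tcm8e_5_g7 tcm8e_5_8
theorem tcm8e_5_g9 : ∀ i < 140160, (ent2 Tm8 Em8 (selR RLm8 Im8) Dm8 (nat_lit 262143) (nat_lit 122760) (nat_lit 122760) (nat_lit 183825) (nat_lit 8) (nat_lit 2097151) (nat_lit 4) (nat_lit 5)) i = 0 := range_glue tcm8e_5_g8 tcm8e_5_9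
theorem tcm8e_5_g10 : ∀ i < 154176, (ent2 Tm8 Em8 (selR RLm8 Im8) Dm8 (nat_lit 262143) (nat_lit 122760) (nat_lit 122760) (nat_lit 183825) (nat_lit 8) (nat_lit 2097151) (nat_lit 4) (nat_lit 5)) i = 0 := range_glue tcm8e_5_g9 tcm8e_5_10
theorem tcm8e_5_g11 : ∀ i < 168192, (ent2 Tm8 Em8 (selR RLm8 Im8) Dm8 (nat_lit 262143) (nat_lit 122760) (nat_lit 122760) (nat_lit 183825) (nat_lit 8) (nat_lit 2097151) (nat_lit 4) (nat_lit 5)) i = 0 := range_glue tcm8e_5_g10 tcm8e_5_11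
theorem tcm8e_5_g12 : ∀ i < 182208, (ent2 Tm8 Em8 (selR RLm8 Im8) Dm8 (nat_lit 262143) (nat_lit 122760) (nat_lit 122760) (nat_lit 183825) (nat_lit 8) (nat_lit 2097151) (nat_lit 4) (nat_lit 5)) i = 0 := range_glue tcm8e_5_g11 tcm8e_5_12
theorem tcm8e_5 : ∀ i < 183825, (ent2 Tm8 Em8 (selR RLm8 Im8) Dm8 (nat_lit 262143) (nat_lit 122760) (nat_lit 122760) (nat_lit 183825) (nat_lit 8) (nat_lit 2097151) (nat_lit 4) (nat_lit 5)) i = 0 := range_glue tcm8e_5_g12 tcm8e_5_13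
theorem tcm8e_6_g0 : ∀ i < 12928, (ent2 Tm8 Em8 (selR RLm8 Im8) Dm8 (nat_lit 262143) (nat_lit 122760) (nat_lit 122760) (nat_lit 183825) (nat_lit 8) (nat_lit 2097151) (nat_lit 4) (nat_lit 6)) i = 0 := allZ_sound0 tcm8e_6_0
theorem tcm8e_6_g1 : ∀ i < 25856, (ent2 Tm8 Em8 (selR RLm8 Im8) Dm8 (nat_lit 262143) (nat_lit 122760) (nat_lit 122760) (nat_lit 183825) (nat_lit 8) (nat_lit 2097151) (nat_lit 4) (nat_lit 6)) i = 0 := range_glue tcm8e_6_g0 tcm8e_6_1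
theorem tcm8e_6_g2 : ∀ i < 38784, (ent2 Tm8 Em8 (selR RLm8 Im8) Dm8 (nat_lit 262143) (nat_lit 122760) (nat_lit 122760) (nat_lit 183825) (nat_lit 8) (nat_lit 2097151) (nat_lit 4) (nat_lit 6)) i = 0 := range_glue tcm8e_6_g1 tcm8e_6_2
theorem tcm8e_6_g3 : ∀ i < 51712, (ent2 Tm8 Em8 (selR RLm8 Im8) Dm8 (nat_lit 262143) (nat_lit 122760) (nat_lit 122760) (nat_lit 183825) (nat_lit 8) (nat_lit 2097151) (nat_lit 4) (nat_lit 6)) i = 0 := range_glue tcm8e_6_g2 tcm8e_6_3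
theorem tcm8e_6_g4 : ∀ i < 64640, (ent2 Tm8 Em8 (selR RLm8 Im8) Dm8 (nat_lit 262143) (nat_lit 122760) (nat_lit 122760) (nat_lit 183825) (nat_lit 8) (nat_lit 2097151) (nat_lit 4) (nat_lit 6)) i = 0 := range_glue tcm8e_6_g3 tcm8e_6_4
theorem tcm8e_6_g5 : ∀ i < 77568, (ent2 Tm8 Em8 (selR RLm8 Im8) Dm8 (nat_lit 262143) (nat_lit 122760) (nat_lit 122760) (nat_lit 183825) (nat_lit 8) (nat_lit 2097151) (nat_lit 4) (nat_lit 6)) i = 0 := range_glue tcm8e_6_g4 tcm8e_6_5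
theorem tcm8e_6_g6 : ∀ i < 90496, (ent2 Tm8 Em8 (selR RLm8 Im8) Dm8 (nat_lit 262143) (nat_lit 122760) (nat_lit 122760) (nat_lit 183825) (nat_lit 8) (nat_lit 2097151) (nat_lit 4) (nat_lit 6)) i = 0 := range_glue tcm8e_6_g5 tcm8e_6_6
theorem tcm8e_6_g7 : ∀ i < 103424, (ent2 Tm8 Em8 (selR RLm8 Im8) Dm8 (nat_lit 262143) (nat_lit 122760) (nat_lit 122760) (nat_lit 183825) (nat_lit 8) (nat_lit 2097151) (nat_lit 4) (nat_lit 6)) i = 0 := range_glue tcm8e_6_g6 tcm8e_6_7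
theorem tcm8e_6_g8 : ∀ i < 116352, (ent2 Tm8 Em8 (selR RLm8 Im8) Dm8 (nat_lit 262143) (nat_lit 122760) (nat_lit 122760) (nat_lit 183825) (nat_lit 8) (nat_lit 2097151) (nat_lit 4) (nat_lit 6)) i = 0 := range_glue tcm8e_6_g7 tcm8e_6_8
theorem tcm8e_6_g9 : ∀ i < 129280, (ent2 Tm8 Em8 (selR RLm8 Im8) Dm8 (nat_lit 262143) (nat_lit 122760) (nat_lit 122760) (nat_lit 183825) (nat_lit 8) (nat_lit 2097151) (nat_lit 4) (nat_lit 6)) i = 0 := range_glue tcm8e_6_g8 tcm8e_6_9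
theorem tcm8e_6_g10 : ∀ i < 142208, (ent2 Tm8 Em8 (selR RLm8 Im8) Dm8 (nat_lit 262143) (nat_lit 122760) (nat_lit 122760) (nat_lit 183825) (nat_lit 8) (nat_lit 2097151) (nat_lit 4) (nat_lit 6)) i = 0 := range_glue tcm8e_6_g9 tcm8e_6_10
theorem tcm8e_6_g11 : ∀ i < 155136, (ent2 Tm8 Em8 (selR RLm8 Im8) Dm8 (nat_lit 262143) (nat_lit 122760) (nat_lit 122760) (nat_lit 183825) (nat_lit 8) (nat_lit 2097151) (nat_lit 4) (nat_lit 6)) i = 0 := range_glue tcm8e_6_g10 tcm8e_6_11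
theorem tcm8e_6_g12 : ∀ i < 168064, (ent2 Tm8 Em8 (selR RLm8 Im8) Dm8 (nat_lit 262143) (nat_lit 122760) (nat_lit 122760) (nat_lit 183825) (nat_lit 8) (nat_lit 2097151) (nat_lit 4) (nat_lit 6)) i = 0 := range_glue tcm8e_6_g11 tcm8e_6_12
theorem tcm8e_6_g13 : ∀ i < 180992, (ent2 Tm8 Em8 (selR RLm8 Im8) Dm8 (nat_lit 262143) (nat_lit 122760) (nat_lit 122760) (nat_lit 183825) (nat_lit 8) (nat_lit 2097151) (nat_lit 4) (nat_lit 6)) i = 0 := range_glue tcm8e_6_g12 tcm8e_6_13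
theorem tcm8e_6 : ∀ i < 183825, (ent2 Tm8 Em8 (selR RLm8 Im8) Dm8 (nat_lit 262143) (nat_lit 122760) (nat_lit 122760) (nat_lit 183825) (nat_lit 8) (nat_lit 2097151) (nat_lit 4) (nat_lit 6)) i = 0 := range_glue tcm8e_6_g13 tcm8e_6_14
theorem tcm8e_7_g0 : ∀ i < 12800, (ent2 Tm8 Em8 (selR RLm8 Im8) Dm8 (nat_lit 262143) (nat_lit 122760) (nat_lit 122760) (nat_lit 183825) (nat_lit 8) (nat_lit 2097151) (nat_lit 4) (nat_lit 7)) i = 0 := allZ_sound0 tcm8e_7_0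
theorem tcm8e_7_g1 : ∀ i < 25600, (ent2 Tm8 Em8 (selR RLm8 Im8) Dm8 (nat_lit 262143) (nat_lit 122760) (nat_lit 122760) (nat_lit 183825) (nat_lit 8) (nat_lit 2097151) (nat_lit 4) (nat_lit 7)) i = 0 := range_glue tcm8e_7_g0 tcm8e_7_1
theorem tcm8e_7_g2 : ∀ i < 38400, (ent2 Tm8 Em8 (selR RLm8 Im8) Dm8 (nat_lit 262143) (nat_lit 122760) (nat_lit 122760) (nat_lit 183825) (nat_lit 8) (nat_lit 2097151) (nat_lit 4) (nat_lit 7)) i = 0 := range_glue tcm8e_7_g1 tcm8e_7_2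
theorem tcm8e_7_g3 : ∀ i < 51200, (ent2 Tm8 Em8 (selR RLm8 Im8) Dm8 (nat_lit 262143) (nat_lit 122760) (nat_lit 122760) (nat_lit 183825) (nat_lit 8) (nat_lit 2097151) (nat_lit 4) (nat_lit 7)) i = 0 := range_glue tcm8e_7_g2 tcm8e_7_3
theorem tcm8e_7_g4 : ∀ i < 64000, (ent2 Tm8 Em8 (selR RLm8 Im8) Dm8 (nat_lit 262143) (nat_lit 122760) (nat_lit 122760) (nat_lit 183825) (nat_lit 8) (nat_lit 2097151) (nat_lit 4) (nat_lit 7)) i = 0 := range_glue tcm8e_7_g3 tcm8e_7_4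
theorem tcm8e_7_g5 : ∀ i < 76800, (ent2 Tm8 Em8 (selR RLm8 Im8) Dm8 (nat_lit 262143) (nat_lit 122760) (nat_lit 122760) (nat_lit 183825) (nat_lit 8) (nat_lit 2097151) (nat_lit 4) (nat_lit 7)) i = 0 := range_glue tcm8e_7_g4 tcm8e_7_5
theorem tcm8e_7_g6 : ∀ i < 89600, (ent2 Tm8 Em8 (selR RLm8 Im8) Dm8 (nat_lit 262143) (nat_lit 122760) (nat_lit 122760) (nat_lit 183825) (nat_lit 8) (nat_lit 2097151) (nat_lit 4) (nat_lit 7)) i = 0 := range_glue tcm8e_7_g5 tcm8e_7_6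
theorem tcm8e_7_g7 : ∀ i < 102400, (ent2 Tm8 Em8 (selR RLm8 Im8) Dm8 (nat_lit 262143) (nat_lit 122760) (nat_lit 122760) (nat_lit 183825) (nat_lit 8) (nat_lit 2097151) (nat_lit 4) (nat_lit 7)) i = 0 := range_glue tcm8e_7_g6 tcm8e_7_7
theorem tcm8e_7_g8 : ∀ i < 115200, (ent2 Tm8 Em8 (selR RLm8 Im8) Dm8 (nat_lit 262143) (nat_lit 122760) (nat_lit 122760) (nat_lit 183825) (nat_lit 8) (nat_lit 2097151) (nat_lit 4) (nat_lit 7)) i = 0 := range_glue tcm8e_7_g7 tcm8e_7_8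
theorem tcm8e_7_g9 : ∀ i < 128000, (ent2 Tm8 Em8 (selR RLm8 Im8) Dm8 (nat_lit 262143) (nat_lit 122760) (nat_lit 122760) (nat_lit 183825) (nat_lit 8) (nat_lit 2097151) (nat_lit 4) (nat_lit 7)) i = 0 := range_glue tcm8e_7_g8 tcm8e_7_9
theorem tcm8e_7_g10 : ∀ i < 140800, (ent2 Tm8 Em8 (selR RLm8 Im8) Dm8 (nat_lit 262143) (nat_lit 122760) (nat_lit 122760) (nat_lit 183825) (nat_lit 8) (nat_lit 2097151) (nat_lit 4) (nat_lit 7)) i = 0 := range_glue tcm8e_7_g9 tcm8e_7_10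
theorem tcm8e_7_g11 : ∀ i < 153600, (ent2 Tm8 Em8 (selR RLm8 Im8) Dm8 (nat_lit 262143) (nat_lit 122760) (nat_lit 122760) (nat_lit 183825) (nat_lit 8) (nat_lit 2097151) (nat_lit 4) (nat_lit 7)) i = 0 := range_glue tcm8e_7_g10 tcm8e_7_11
theorem tcm8e_7_g12 : ∀ i < 166400, (ent2 Tm8 Em8 (selR RLm8 Im8) Dm8 (nat_lit 262143) (nat_lit 122760) (nat_lit 122760) (nat_lit 183825) (nat_lit 8) (nat_lit 2097151) (nat_lit 4) (nat_lit 7)) i = 0 := range_glue tcm8e_7_g11 tcm8e_7_12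
theorem tcm8e_7_g13 : ∀ i < 179200, (ent2 Tm8 Em8 (selR RLm8 Im8) Dm8 (nat_lit 262143) (nat_lit 122760) (nat_lit 122760) (nat_lit 183825) (nat_lit 8) (nat_lit 2097151) (nat_lit 4) (nat_lit 7)) i = 0 := range_glue tcm8e_7_g12 tcm8e_7_13
theorem tcm8e_7 : ∀ i < 183825, (ent2 Tm8 Em8 (selR RLm8 Im8) Dm8 (nat_lit 262143) (nat_lit 122760) (nat_lit 122760) (nat_lit 183825) (nat_lit 8) (nat_lit 2097151) (nat_lit 4) (nat_lit 7)) i = 0 := range_glue tcm8e_7_g13 tcm8e_7_14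
theorem tcm8e : ∀ k < 8, ∀ i < 183825, (ent2 Tm8 Em8 (selR RLm8 Im8) Dm8 (nat_lit 262143) (nat_lit 122760) (nat_lit 122760) (nat_lit 183825) (nat_lit 8) (nat_lit 2097151) (nat_lit 4)) k i = 0 :=
  letters_glue (letters_glue (letters_glue (letters_glue (letters_glue (letters_glue (letters_glue (letters_glue (letters_nil) tcm8e_0) tcm8e_1) tcm8e_2) tcm8e_3) tcm8e_4) tcm8e_5) tcm8e_6) tcm8e_7
theorem tcm8p_g0 : ∀ i < 5696, (eps2 Tm8 Em8 Jm8 Wm8 RLm8 (nat_lit 262143) (nat_lit 122760) (nat_lit 183825) (nat_lit 8) (nat_lit 4)) i = 0 := allZ_sound0 tcm8p_0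
theorem tcm8p_g1 : ∀ i < 11392, (eps2 Tm8 Em8 Jm8 Wm8 RLm8 (nat_lit 262143) (nat_lit 122760) (nat_lit 183825) (nat_lit 8) (nat_lit 4)) i = 0 := range_glue tcm8p_g0 tcm8p_1
theorem tcm8p_g2 : ∀ i < 17088, (eps2 Tm8 Em8 Jm8 Wm8 RLm8 (nat_lit 262143) (nat_lit 122760) (nat_lit 183825) (nat_lit 8) (nat_lit 4)) i = 0 := range_glue tcm8p_g1 tcm8p_2
theorem tcm8p_g3 : ∀ i < 22784, (eps2 Tm8 Em8 Jm8 Wm8 RLm8 (nat_lit 262143) (nat_lit 122760) (nat_lit 183825) (nat_lit 8) (nat_lit 4)) i = 0 := range_glue tcm8p_g2 tcm8p_3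
theorem tcm8p_g4 : ∀ i < 28480, (eps2 Tm8 Em8 Jm8 Wm8 RLm8 (nat_lit 262143) (nat_lit 122760) (nat_lit 183825) (nat_lit 8) (nat_lit 4)) i = 0 := range_glue tcm8p_g3 tcm8p_4
theorem tcm8p_g5 : ∀ i < 34176, (eps2 Tm8 Em8 Jm8 Wm8 RLm8 (nat_lit 262143) (nat_lit 122760) (nat_lit 183825) (nat_lit 8) (nat_lit 4)) i = 0 := range_glue tcm8p_g4 tcm8p_5
theorem tcm8p_g6 : ∀ i < 39872, (eps2 Tm8 Em8 Jm8 Wm8 RLm8 (nat_lit 262143) (nat_lit 122760) (nat_lit 183825) (nat_lit 8) (nat_lit 4)) i = 0 := range_glue tcm8p_g5 tcm8p_6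
theorem tcm8p_g7 : ∀ i < 45568, (eps2 Tm8 Em8 Jm8 Wm8 RLm8 (nat_lit 262143) (nat_lit 122760) (nat_lit 183825) (nat_lit 8) (nat_lit 4)) i = 0 := range_glue tcm8p_g6 tcm8p_7
theorem tcm8p_g8 : ∀ i < 51264, (eps2 Tm8 Em8 Jm8 Wm8 RLm8 (nat_lit 262143) (nat_lit 122760) (nat_lit 183825) (nat_lit 8) (nat_lit 4)) i = 0 := range_glue tcm8p_g7 tcm8p_8
theorem tcm8p_g9 : ∀ i < 56960, (eps2 Tm8 Em8 Jm8 Wm8 RLm8 (nat_lit 262143) (nat_lit 122760) (nat_lit 183825) (nat_lit 8) (nat_lit 4)) i = 0 := range_glue tcm8p_g8 tcm8p_9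
theorem tcm8p : ∀ i < 61065, (eps2 Tm8 Em8 Jm8 Wm8 RLm8 (nat_lit 262143) (nat_lit 122760) (nat_lit 183825) (nat_lit 8) (nat_lit 4)) i = 0 := range_glue tcm8p_g9 tcm8p_10
theorem tcm8 : cm8.OK Rl 8 := ⟨tcm8n, ivc, tcm8r, tcm8e, fun i h => tcm8p i (lt_of_lt_of_eq h tcm8q)⟩
theorem bdm8 : Bound Rl 8 460815505920 := Bound.step2 (bdm6) tcm8 stm8
theorem bound : Bound Rl 8 460815505920 := bdm8

end H16.PON
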