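import Cfsg.Agent.H16.Prim
import Cfsg.Agent.H16.L.Tits

/-! Generated by tools/h16 (computation kit). -/

set_option maxRecDepth 100000
set_option maxHeartbeats 0

namespace H16.TitsT

noncomputable def UQ : List (List ℕ) := [[nat_lit 0, nat_lit 4, nat_lit 3, nat_lit 4, nat_lit 0, nat_lit 2, nat_lit 4, nat_lit 0, nat_lit 5, nat_lit 4, nat_lit 1, nat_lit 3, nat_lit 4, nat_lit 1, nat_lit 2, nat_lit 5, nat_lit 4, nat_lit 0, nat_lit 3],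
  [nat_lit 1, nat_lit 2, nat_lit 5, nat_lit 4, nat_lit 1, nat_lit 3, nat_lit 4, nat_lit 1, nat_lit 4, nat_lit 3, nat_lit 5, nat_lit 4, nat_lit 2, nat_lit 4]]
noncomputable def WQ : List (List ℕ) := [[],
  [nat_lit 0],
  [nat_lit 1],
  [nat_lit 0, nat_lit 0],
  [nat_lit 0, nat_lit 1],
  [nat_lit 1, nat_lit 1],
  [nat_lit 0, nat_lit 0, nat_lit 0],
  [nat_lit 0, nat_lit 0, nat_lit 1],
  [nat_lit 0, nat_lit 1, nat_lit 1],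
  [nat_lit 1, nat_lit 1, nat_lit 1],
  [nat_lit 0, nat_lit 0, nat_lit 0, nat_lit 0],
  [nat_lit 0, nat_lit 0, nat_lit 0, nat_lit 1],
  [nat_lit 0, nat_lit 0, nat_lit 1, nat_lit 1],
  [nat_lit 0, nat_lit 1, nat_lit 1, nat_lit 1],
  [nat_lit 1, nat_lit 1, nat_lit 1, nat_lit 1],
  [nat_lit 0, nat_lit 0, nat_lit 0, nat_lit 0, nat_lit 1],
  [nat_lit 0, nat_lit 0, nat_lit 0, nat_lit 1, nat_lit 1],
  [nat_lit 0, nat_lit 0, nat_lit 1, nat_lit 1, nat_lit 1],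
  [nat_lit 0, nat_lit 1, nat_lit 1, nat_lit 1, nat_lit 1],
  [nat_lit 0, nat_lit 0, nat_lit 0, nat_lit 0, nat_lit 1, nat_lit 1],
  [nat_lit 0, nat_lit 0, nat_lit 0, nat_lit 1, nat_lit 1, nat_lit 1],
  [nat_lit 0, nat_lit 0, nat_lit 1, nat_lit 1, nat_lit 1, nat_lit 1],
  [nat_lit 0, nat_lit 0, nat_lit 0, nat_lit 0, nat_lit 1, nat_lit 1, nat_lit 1],
  [nat_lit 0, nat_lit 0, nat_lit 0, nat_lit 1, nat_lit 1, nat_lit 1, nat_lit 1],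
  [nat_lit 0, nat_lit 0, nat_lit 0, nat_lit 0, nat_lit 1, nat_lit 1, nat_lit 1, nat_lit 1]]
noncomputable def CQ : List (List ℕ) := [[],
  [nat_lit 1, nat_lit 4, nat_lit 2, nat_lit 4, nat_lit 1, nat_lit 4, nat_lit 2, nat_lit 5, nat_lit 4, nat_lit 0, nat_lit 0, nat_lit 3, nat_lit 4, nat_lit 1, nat_lit 2, nat_lit 5],
  [nat_lit 2, nat_lit 3, nat_lit 4, nat_lit 2, nat_lit 4, nat_lit 0, nat_lit 0, nat_lit 2, nat_lit 5, nat_lit 4, nat_lit 3, nat_lit 4, nat_lit 0, nat_lit 4, nat_lit 5],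
  [nat_lit 0, nat_lit 2, nat_lit 4, nat_lit 0, nat_lit 0, nat_lit 2, nat_lit 5, nat_lit 4, nat_lit 0, nat_lit 2, nat_lit 4, nat_lit 1, nat_lit 2],
  [nat_lit 4, nat_lit 0, nat_lit 0, nat_lit 2, nat_lit 4, nat_lit 1, nat_lit 2, nat_lit 3, nat_lit 5, nat_lit 4, nat_lit 1, nat_lit 3, nat_lit 4, nat_lit 3],
  [nat_lit 0, nat_lit 0, nat_lit 2, nat_lit 4, nat_lit 2, nat_lit 3, nat_lit 4, nat_lit 0, nat_lit 0, nat_lit 5, nat_lit 4, nat_lit 0, nat_lit 3, nat_lit 4, nat_lit 0],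
  [nat_lit 0, nat_lit 2, nat_lit 4, nat_lit 2, nat_lit 4, nat_lit 1, nat_lit 4, nat_lit 2, nat_lit 5, nat_lit 4, nat_lit 1, nat_lit 2],
  [nat_lit 0, nat_lit 0, nat_lit 4, nat_lit 3, nat_lit 4, nat_lit 0, nat_lit 4, nat_lit 2, nat_lit 5, nat_lit 4, nat_lit 2],
  [nat_lit 1, nat_lit 2, nat_lit 4, nat_lit 2, nat_lit 3, nat_lit 4, nat_lit 5, nat_lit 4, nat_lit 1, nat_lit 2, nat_lit 4, nat_lit 1, nat_lit 3],
  [nat_lit 0, nat_lit 3, nat_lit 4, nat_lit 1, nat_lit 2, nat_lit 4, nat_lit 2, nat_lit 4, nat_lit 5, nat_lit 4, nat_lit 2, nat_lit 4, nat_lit 1, nat_lit 2, nat_lit 4, nat_lit 0],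
  [nat_lit 5, nat_lit 2, nat_lit 3, nat_lit 4, nat_lit 1, nat_lit 2, nat_lit 4, nat_lit 2, nat_lit 5, nat_lit 4, nat_lit 0, nat_lit 2, nat_lit 4, nat_lit 5, nat_lit 3],
  [nat_lit 1, nat_lit 2, nat_lit 3, nat_lit 4, nat_lit 1, nat_lit 4, nat_lit 3, nat_lit 5, nat_lit 4, nat_lit 2, nat_lit 4, nat_lit 1, nat_lit 3, nat_lit 5],
  [nat_lit 2, nat_lit 4, nat_lit 3, nat_lit 5, nat_lit 4, nat_lit 0, nat_lit 3, nat_lit 4, nat_lit 2, nat_lit 5, nat_lit 4, nat_lit 2, nat_lit 4, nat_lit 1, nat_lit 4],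
  [nat_lit 0, nat_lit 0, nat_lit 3, nat_lit 4, nat_lit 2, nat_lit 4, nat_lit 2, nat_lit 4, nat_lit 1, nat_lit 4, nat_lit 5, nat_lit 4, nat_lit 0, nat_lit 3, nat_lit 4],
  [nat_lit 4, nat_lit 1, nat_lit 2, nat_lit 3, nat_lit 4, nat_lit 3, nat_lit 4, nat_lit 5, nat_lit 4, nat_lit 0, nat_lit 3, nat_lit 4, nat_lit 2, nat_lit 3],
  [nat_lit 5, nat_lit 0, nat_lit 3, nat_lit 4, nat_lit 0, nat_lit 2, nat_lit 4, nat_lit 3, nat_lit 5, nat_lit 4, nat_lit 0, nat_lit 3, nat_lit 4, nat_lit 3, nat_lit 4],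
  [nat_lit 2, nat_lit 4, nat_lit 1, nat_lit 2, nat_lit 4, nat_lit 2, nat_lit 5, nat_lit 4, nat_lit 0, nat_lit 2, nat_lit 4, nat_lit 0, nat_lit 2, nat_lit 4, nat_lit 1],
  [nat_lit 5, nat_lit 1, nat_lit 4, nat_lit 0, nat_lit 3, nat_lit 4, nat_lit 1, nat_lit 5, nat_lit 4, nat_lit 2, nat_lit 4, nat_lit 1, nat_lit 3, nat_lit 0, nat_lit 5],
  [nat_lit 0, nat_lit 2, nat_lit 3, nat_lit 5, nat_lit 4, nat_lit 0, nat_lit 2, nat_lit 4, nat_lit 3, nat_lit 4, nat_lit 5, nat_lit 3],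
  [nat_lit 5, nat_lit 3, nat_lit 4, nat_lit 3, nat_lit 4, nat_lit 0, nat_lit 5, nat_lit 4, nat_lit 2, nat_lit 4, nat_lit 2, nat_lit 4, nat_lit 3, nat_lit 5, nat_lit 2],
  [nat_lit 1, nat_lit 3, nat_lit 4, nat_lit 2, nat_lit 4, nat_lit 1, nat_lit 3, nat_lit 4, nat_lit 3, nat_lit 5, nat_lit 4, nat_lit 2, nat_lit 3, nat_lit 4],
  [nat_lit 0, nat_lit 3, nat_lit 5, nat_lit 4, nat_lit 2, nat_lit 3, nat_lit 4, nat_lit 5, nat_lit 3, nat_lit 4, nat_lit 2, nat_lit 3],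
  [nat_lit 4, nat_lit 1, nat_lit 3, nat_lit 4, nat_lit 1, nat_lit 2, nat_lit 5, nat_lit 4, nat_lit 2, nat_lit 4, nat_lit 0, nat_lit 2, nat_lit 4, nat_lit 1],
  [nat_lit 5, nat_lit 2, nat_lit 1, nat_lit 4, nat_lit 2, nat_lit 4, nat_lit 0, nat_lit 2, nat_lit 4, nat_lit 5, nat_lit 4, nat_lit 2, nat_lit 3, nat_lit 4, nat_lit 1, nat_lit 4],
  [nat_lit 2, nat_lit 4, nat_lit 1, nat_lit 4, nat_lit 5, nat_lit 4, nat_lit 0, nat_lit 3, nat_lit 4, nat_lit 1]]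
noncomputable def TQ : List (List ℕ) := [[nat_lit 1, nat_lit 3, nat_lit 4, nat_lit 6, nat_lit 7, nat_lit 8, nat_lit 10, nat_lit 11, nat_lit 12, nat_lit 13, nat_lit 0, nat_lit 15, nat_lit 16, nat_lit 17, nat_lit 18, nat_lit 2, nat_lit 19, nat_lit 20, nat_lit 21, nat_lit 5, nat_lit 22, nat_lit 23, nat_lit 9, nat_lit 24, nat_lit 14],
  [nat_lit 2, nat_lit 4, nat_lit 5, nat_lit 7, nat_lit 8, nat_lit 9, nat_lit 11, nat_lit 12, nat_lit 13, nat_lit 14, nat_lit 15, nat_lit 16, nat_lit 17, nat_lit 18, nat_lit 0, nat_lit 19, nat_lit 20, nat_lit 21, nat_lit 1, nat_lit 22, nat_lit 23, nat_lit 3, nat_lit 24, nat_lit 6, nat_lit 10]]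
noncomputable def YQ : List ℕ := [nat_lit 0, nat_lit 4, nat_lit 1, nat_lit 3, nat_lit 4, nat_lit 1, nat_lit 5, nat_lit 4, nat_lit 0, nat_lit 3, nat_lit 4, nat_lit 3, nat_lit 5, nat_lit 4, nat_lit 0, nat_lit 0, nat_lit 3, nat_lit 4, nat_lit 2]
noncomputable def UR : List (List ℕ) := [[nat_lit 0, nat_lit 3, nat_lit 4, nat_lit 2, nat_lit 4, nat_lit 2, nat_lit 3, nat_lit 5, nat_lit 4, nat_lit 0, nat_lit 2, nat_lit 3, nat_lit 4, nat_lit 2, nat_lit 5, nat_lit 4, nat_lit 0, nat_lit 3],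
  [nat_lit 4, nat_lit 0, nat_lit 3, nat_lit 4, nat_lit 5, nat_lit 4, nat_lit 2, nat_lit 4, nat_lit 1, nat_lit 3, nat_lit 4, nat_lit 5, nat_lit 4, nat_lit 2, nat_lit 4]]
noncomputable def WR : List (List ℕ) := [[],
  [nat_lit 0],
  [nat_lit 1],
  [nat_lit 0, nat_lit 0],
  [nat_lit 0, nat_lit 1],
  [nat_lit 1, nat_lit 0],
  [nat_lit 1, nat_lit 1],
  [nat_lit 0, nat_lit 0, nat_lit 1],
  [nat_lit 0, nat_lit 1, nat_lit 0],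
  [nat_lit 0, nat_lit 1, nat_lit 1],
  [nat_lit 1, nat_lit 0, nat_lit 0],
  [nat_lit 1, nat_lit 0, nat_lit 1],
  [nat_lit 1, nat_lit 1, nat_lit 0],
  [nat_lit 0, nat_lit 0, nat_lit 1, nat_lit 0],
  [nat_lit 0, nat_lit 0, nat_lit 1, nat_lit 1],
  [nat_lit 0, nat_lit 1, nat_lit 0, nat_lit 0],
  [nat_lit 0, nat_lit 1, nat_lit 0, nat_lit 1],
  [nat_lit 0, nat_lit 1, nat_lit 1, nat_lit 0],
  [nat_lit 1, nat_lit 0, nat_lit 1, nat_lit 1],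
  [nat_lit 1, nat_lit 1, nat_lit 0, nat_lit 1],
  [nat_lit 0, nat_lit 0, nat_lit 1, nat_lit 0, nat_lit 0],
  [nat_lit 0, nat_lit 0, nat_lit 1, nat_lit 0, nat_lit 1],
  [nat_lit 0, nat_lit 0, nat_lit 1, nat_lit 1, nat_lit 0],
  [nat_lit 0, nat_lit 1, nat_lit 0, nat_lit 1, nat_lit 1],
  [nat_lit 0, nat_lit 1, nat_lit 1, nat_lit 0, nat_lit 1],
  [nat_lit 0, nat_lit 0, nat_lit 1, nat_lit 0, nat_lit 1, nat_lit 1],
  [nat_lit 0, nat_lit 0, nat_lit 1, nat_lit 1, nat_lit 0, nat_lit 1]]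
noncomputable def CR : List (List ℕ) := [[],
  [nat_lit 1, nat_lit 2, nat_lit 4, nat_lit 2, nat_lit 3, nat_lit 4, nat_lit 0, nat_lit 4, nat_lit 3, nat_lit 4, nat_lit 1, nat_lit 5, nat_lit 4, nat_lit 0, nat_lit 3, nat_lit 4],
  [nat_lit 1, nat_lit 2, nat_lit 4, nat_lit 2, nat_lit 4, nat_lit 2, nat_lit 4, nat_lit 0, nat_lit 5],
  [nat_lit 0, nat_lit 0, nat_lit 2, nat_lit 4, nat_lit 1, nat_lit 3, nat_lit 5, nat_lit 4, nat_lit 0, nat_lit 2, nat_lit 4, nat_lit 1, nat_lit 3],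
  [nat_lit 4, nat_lit 0, nat_lit 3, nat_lit 4, nat_lit 5, nat_lit 4, nat_lit 3, nat_lit 4, nat_lit 2, nat_lit 4, nat_lit 2, nat_lit 4, nat_lit 0],
  [nat_lit 0, nat_lit 3, nat_lit 4, nat_lit 1, nat_lit 3, nat_lit 4, nat_lit 0, nat_lit 5, nat_lit 4, nat_lit 0, nat_lit 3, nat_lit 4, nat_lit 1],
  [nat_lit 4, nat_lit 1, nat_lit 3, nat_lit 4, nat_lit 1, nat_lit 5, nat_lit 4, nat_lit 1, nat_lit 3, nat_lit 4, nat_lit 1, nat_lit 4, nat_lit 3, nat_lit 5],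
  [nat_lit 1, nat_lit 2, nat_lit 3, nat_lit 4, nat_lit 0, nat_lit 3, nat_lit 4, nat_lit 1, nat_lit 5, nat_lit 4, nat_lit 1, nat_lit 2],
  [nat_lit 5, nat_lit 2, nat_lit 0, nat_lit 4, nat_lit 0, nat_lit 3, nat_lit 4, nat_lit 1, nat_lit 2, nat_lit 4, nat_lit 5, nat_lit 4, nat_lit 2],
  [nat_lit 2, nat_lit 3, nat_lit 4, nat_lit 0, nat_lit 3, nat_lit 4, nat_lit 3, nat_lit 5, nat_lit 4, nat_lit 1, nat_lit 2, nat_lit 4, nat_lit 1],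
  [nat_lit 0, nat_lit 4, nat_lit 0, nat_lit 0, nat_lit 2, nat_lit 3, nat_lit 5, nat_lit 4, nat_lit 3, nat_lit 4, nat_lit 2, nat_lit 5, nat_lit 4, nat_lit 0, nat_lit 4],
  [nat_lit 2, nat_lit 4, nat_lit 2, nat_lit 4, nat_lit 0, nat_lit 3, nat_lit 5, nat_lit 4, nat_lit 2, nat_lit 3, nat_lit 4, nat_lit 2, nat_lit 3],
  [nat_lit 1, nat_lit 2, nat_lit 3, nat_lit 4, nat_lit 3, nat_lit 4, nat_lit 0, nat_lit 2],
  [nat_lit 1, nat_lit 2, nat_lit 4, nat_lit 0, nat_lit 2, nat_lit 4, nat_lit 3, nat_lit 5, nat_lit 4, nat_lit 1, nat_lit 3, nat_lit 4, nat_lit 2, nat_lit 5],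
  [nat_lit 0, nat_lit 4, nat_lit 2, nat_lit 4, nat_lit 1, nat_lit 3, nat_lit 4, nat_lit 0, nat_lit 5, nat_lit 4, nat_lit 2, nat_lit 3, nat_lit 4],
  [nat_lit 2, nat_lit 4, nat_lit 1, nat_lit 5, nat_lit 4, nat_lit 2, nat_lit 4, nat_lit 2, nat_lit 4, nat_lit 2, nat_lit 5, nat_lit 4, nat_lit 0, nat_lit 3],
  [nat_lit 2, nat_lit 4, nat_lit 0, nat_lit 2, nat_lit 3, nat_lit 4, nat_lit 5, nat_lit 4, nat_lit 0, nat_lit 2, nat_lit 4, nat_lit 2],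
  [nat_lit 0, nat_lit 0, nat_lit 4, nat_lit 1, nat_lit 5, nat_lit 4, nat_lit 2, nat_lit 3, nat_lit 4, nat_lit 0, nat_lit 4, nat_lit 2],
  [nat_lit 0, nat_lit 2, nat_lit 4, nat_lit 1, nat_lit 5, nat_lit 4, nat_lit 1, nat_lit 3, nat_lit 4, nat_lit 0, nat_lit 2, nat_lit 3],
  [nat_lit 4, nat_lit 2, nat_lit 4, nat_lit 1, nat_lit 4, nat_lit 3, nat_lit 5, nat_lit 4, nat_lit 2, nat_lit 4, nat_lit 0, nat_lit 4, nat_lit 2, nat_lit 4, nat_lit 5],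
  [nat_lit 2, nat_lit 4, nat_lit 0, nat_lit 0, nat_lit 3, nat_lit 4, nat_lit 1, nat_lit 3, nat_lit 5, nat_lit 4, nat_lit 1, nat_lit 3, nat_lit 4, nat_lit 1],
  [nat_lit 1, nat_lit 4, nat_lit 2, nat_lit 4, nat_lit 2, nat_lit 4, nat_lit 3, nat_lit 4, nat_lit 5, nat_lit 4, nat_lit 1, nat_lit 3, nat_lit 4],
  [nat_lit 1, nat_lit 4, nat_lit 1, nat_lit 3, nat_lit 4, nat_lit 1, nat_lit 5, nat_lit 4, nat_lit 3, nat_lit 4, nat_lit 1, nat_lit 2, nat_lit 5],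
  [nat_lit 2, nat_lit 3, nat_lit 4, nat_lit 0, nat_lit 2, nat_lit 3, nat_lit 4, nat_lit 0, nat_lit 0, nat_lit 2, nat_lit 5, nat_lit 4, nat_lit 3, nat_lit 4, nat_lit 0],
  [nat_lit 1, nat_lit 4, nat_lit 1, nat_lit 2, nat_lit 4, nat_lit 3, nat_lit 5, nat_lit 4, nat_lit 2, nat_lit 4, nat_lit 0, nat_lit 4, nat_lit 5, nat_lit 4, nat_lit 2],
  [nat_lit 5, nat_lit 0, nat_lit 3, nat_lit 4, nat_lit 2, nat_lit 4, nat_lit 1, nat_lit 5, nat_lit 4, nat_lit 2, nat_lit 4, nat_lit 1, nat_lit 3, nat_lit 5],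
  [nat_lit 4, nat_lit 1, nat_lit 3, nat_lit 4, nat_lit 2, nat_lit 5, nat_lit 4, nat_lit 2, nat_lit 4, nat_lit 2, nat_lit 4, nat_lit 0]]
noncomputable def TR : List (List ℕ) := [[nat_lit 1, nat_lit 3, nat_lit 5, nat_lit 0, nat_lit 8, nat_lit 10, nat_lit 12, nat_lit 13, nat_lit 15, nat_lit 17, nat_lit 2, nat_lit 14, nat_lit 16, nat_lit 20, nat_lit 22, nat_lit 4, nat_lit 6, nat_lit 21, nat_lit 23, nat_lit 24, nat_lit 7, nat_lit 9, nat_lit 11, nat_lit 25, nat_lit 26, nat_lit 18, nat_lit 19],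
  [nat_lit 2, nat_lit 4, nat_lit 6, nat_lit 7, nat_lit 9, nat_lit 11, nat_lit 0, nat_lit 14, nat_lit 16, nat_lit 1, nat_lit 17, nat_lit 18, nat_lit 19, nat_lit 21, nat_lit 3, nat_lit 22, nat_lit 23, nat_lit 24, nat_lit 5, nat_lit 20, nat_lit 12, nat_lit 25, nat_lit 26, nat_lit 8, nat_lit 10, nat_lit 13, nat_lit 15]]
noncomputable def YR : List ℕ := [nat_lit 5, nat_lit 0, nat_lit 0, nat_lit 3, nat_lit 4, nat_lit 3, nat_lit 5, nat_lit 4, nat_lit 0, nat_lit 3, nat_lit 4, nat_lit 1, nat_lit 3, nat_lit 5, nat_lit 4, nat_lit 2, nat_lit 3, nat_lit 4]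
noncomputable def X : List ℕ := [nat_lit 0, nat_lit 5, nat_lit 4, nat_lit 2, nat_lit 4, nat_lit 0, nat_lit 3, nat_lit 4, nat_lit 0, nat_lit 5, nat_lit 4, nat_lit 2, nat_lit 3, nat_lit 4, nat_lit 5, nat_lit 3, nat_lit 4, nat_lit 1]
noncomputable def V : List ℕ := [nat_lit 0, nat_lit 2, nat_lit 3, nat_lit 4, nat_lit 3, nat_lit 4, nat_lit 0, nat_lit 2, nat_lit 5, nat_lit 4, nat_lit 0, nat_lit 2, nat_lit 4, nat_lit 0, nat_lit 3, nat_lit 4, nat_lit 0]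

theorem hQ : allZ (homEnt H15.Tits.P 6 H15.Tits.B YQ UQ WQ CQ TQ) 0 25 = true ∧ WQ.length = 25 ∧ 0 < 25 ∧ nth [] WQ 0 = [] ∧
    allL (ltAll 6) UQ = true ∧ allL (ltAll UQ.length) WQ = true ∧ allL (ltAll 6) CQ = true ∧ 0 < 1755 ∧
    ((List.range 25).map fun i => apW H15.Tits.P (flat UQ (nth [] WQ i)) 0).Nodup := by decide +kernel
theorem nQ : ltAll 6 YQ = 0 ∧ 0 < 1755 ∧ apW H15.Tits.P YQ 0 ≠ 0 := by decide +kernel
theorem hR : allZ (homEnt H15.Tits.P 6 H15.Tits.B YR UR WR CR TR) 0 27 = true ∧ WR.length = 27 ∧ 0 < 27 ∧ nth [] WR 0 = [] ∧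
    allL (ltAll 6) UR = true ∧ allL (ltAll UR.length) WR = true ∧ allL (ltAll 6) CR = true ∧ 0 < 1755 ∧
    ((List.range 27).map fun i => apW H15.Tits.P (flat UR (nth [] WR i)) 0).Nodup := by decide +kernel
theorem nR : ltAll 6 YR = 0 ∧ 0 < 1755 ∧ apW H15.Tits.P YR 0 ≠ 0 := by decide +kernel
theorem nX : ltAll 6 X = 0 ∧ 0 < 1755 ∧ apW H15.Tits.P X 0 ≠ 0 := by decide +kernel
theorem nV : ltAll 6 V = 0 ∧ 0 < 1755 ∧ apW H15.Tits.P V 0 ≠ 0 := by decide +kernel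
theorem xv : powL H15.Tits.P 6 H15.Tits.B X 13 = 0 ∧ powL H15.Tits.P 6 H15.Tits.B V 3 = 0 ∧
    eqL H15.Tits.P 6 H15.Tits.B (V ++ X) ((List.replicate 9 X).flatten ++ V) = 0 := by decide +kernel

theorem ne {W : List ℕ} {i : ℕ} (h : ltAll 6 W = 0 ∧ i < 1755 ∧ apW H15.Tits.P W i ≠ i) :
    (⟨evA H15.Tits.g W, evA_mem_gen _ (ltAll_zero h.1)⟩ : gen H15.Tits.g 6) ≠ 1 :=
  fun e => H15.Tits.act.ne_one (ptF_inj _) h (congrArg Subtype.val e)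
theorem no {Ω : Type*} [Fintype Ω] [MulAction (gen H15.Tits.g 6) Ω] [FaithfulSMul (gen H15.Tits.g 6) Ω]
    (hΩ : 3 ≤ Fintype.card Ω) : ¬ MulAction.IsMultiplyPretransitive (gen H15.Tits.g 6) Ω 2 :=
  tits_no (e := 9) H15.Tits.card (homog_of H15.Tits.act (ptF_inj _) H15.Tits.Blt H15.Tits.isBase hQ (ltAll_zero nQ.1)) (ne nQ)
    (homog_of H15.Tits.act (ptF_inj _) H15.Tits.Blt H15.Tits.isBase hR (ltAll_zero nR.1)) (ne nR)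
    (sub_pow _ (powL_eq_one H15.Tits.act H15.Tits.Blt H15.Tits.isBase xv.1).2) (ne nX) (sub_pow _ (powL_eq_one H15.Tits.act H15.Tits.Blt H15.Tits.isBase xv.2.1).2) (ne nV)
    (sub_rel _ _ (by
      have := eqL_sound H15.Tits.act H15.Tits.Blt H15.Tits.isBase xv.2.2
      rwa [evA_append, evA_append, evA_replicate_flatten] at this)) hΩ

end H16.TitsT
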